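import Groth.Agent.L18.QMap.Map
import Groth.Agent.L18.RelProj.BaseChange

/-!
# Properties of `Proj(u)`
-/

noncomputable section

namespace Groth.L18.QMap

open HomogeneousIdeal CategoryTheory AlgebraicGeometry CategoryTheory.Limits Opposite TopologicalSpace
open HomogeneousLocalization
open Groth.L18

universe u

section Ring

variable {A B σ τ : Type u} [CommRing A] [CommRing B] [SetLike σ A] [AddSubgroupClass σ A]
  [SetLike τ B] [AddSubgroupClass τ B] {𝒜 : ℕ → σ} [GradedRing 𝒜] {ℬ : ℕ → τ} [GradedRing ℬ]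
  (φ : 𝒜 →+*ᵍ ℬ)

theorem away_map_surjective_of_eventually {N : ℕ} {i : ℕ} (hi : 0 < i) (s : A) (hs : s ∈ 𝒜 i)
    (h : ∀ n : ℕ, N ≤ n → ∀ y ∈ ℬ n, ∃ x ∈ 𝒜 n, φ x = y) : Function.Surjective (Away.map φ s) := by
  intro x
  obtain ⟨n, b, hb, rfl⟩ := Away.mk_surjective ℬ (φ.2 hs) x
  have hmem : φ s ^ N * b ∈ ℬ ((N + n) • i) := by
    rw [add_smul]
    exact SetLike.mul_mem_graded (SetLike.pow_mem_graded _ (φ.2 hs)) hb
  obtain ⟨a, ha, hab⟩ := h ((N + n) • i)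
    (by rw [smul_eq_mul]; exact (Nat.le_add_right N n).trans (Nat.le_mul_of_pos_right _ hi)) _ hmem
  refine ⟨Away.mk 𝒜 hs (N + n) a ha, val_injective _ ?_⟩
  rw [Away.map_mk, Away.val_mk, Away.val_mk, Localization.mk_eq_mk_iff, Localization.r_iff_exists]
  refine ⟨1, ?_⟩
  simp only [hab, OneMemClass.coe_one, one_mul]
  show φ s ^ n * (φ s ^ N * b) = φ s ^ (N + n) * b
  ring

theorem away_map_injective_of_eventually {N : ℕ} {i : ℕ} (hi : 0 < i) (s : A) (hs : s ∈ 𝒜 i)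
    (h : ∀ n : ℕ, N ≤ n → ∀ x ∈ 𝒜 n, φ x = 0 → x = 0) : Function.Injective (Away.map φ s) := by
  rw [injective_iff_map_eq_zero]
  intro x hx
  obtain ⟨n, a, ha, rfl⟩ := Away.mk_surjective 𝒜 hs x
  have hx' := congrArg HomogeneousLocalization.val hx
  rw [Away.map_mk, Away.val_mk, HomogeneousLocalization.val_zero, Localization.mk_eq_mk',
    IsLocalization.mk'_eq_zero_iff] at hx'
  obtain ⟨⟨_, M, rfl⟩, hM⟩ := hx'
  simp only at hM
  have hmem : s ^ (M + N) * a ∈ 𝒜 ((M + N) • i + n • i) :=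
    SetLike.mul_mem_graded (SetLike.pow_mem_graded _ hs) ha
  have h0 : s ^ (M + N) * a = 0 := by
    refine h _ ?_ _ hmem ?_
    · rw [smul_eq_mul]
      exact ((Nat.le_add_left N M).trans (Nat.le_mul_of_pos_right _ hi)).trans (Nat.le_add_right _ _)
    · rw [map_mul, map_pow, pow_add, mul_comm (φ s ^ M), mul_assoc, hM, mul_zero]
  refine val_injective _ ?_
  rw [Away.val_mk, HomogeneousLocalization.val_zero, Localization.mk_eq_mk', IsLocalization.mk'_eq_zero_iff]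
  exact ⟨⟨s ^ (M + N), M + N, rfl⟩, h0⟩

theorem domOpen_eq_top_of_eventually {N : ℕ} (h : ∀ n : ℕ, N ≤ n → ∀ y ∈ ℬ n, ∃ x ∈ 𝒜 n, φ x = y) :
    RelCone.domOpen φ = ⊤ := by
  refine top_le_iff.mp fun v _ => ?_
  rw [RelCone.mem_domOpen]
  obtain ⟨n, hn, b, hb, hbv⟩ := (PConeImm.exists_homogeneous_not_mem (𝒜 := ℬ) (p := v.asHomogeneousIdeal.toIdeal)).mp
    (Set.not_subset.mp (v.not_irrelevant_le))
  obtain ⟨a, ha, hab⟩ := h ((N + 1) • n)
    (by rw [smul_eq_mul]; exact (Nat.le_succ N).trans (Nat.le_mul_of_pos_right _ hn)) _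
    (SetLike.pow_mem_graded (N + 1) hb)
  refine ⟨a, HomogeneousIdeal.mem_irrelevant_of_mem _ (by rw [smul_eq_mul]; exact Nat.mul_pos (Nat.succ_pos N) hn) ha, ?_⟩
  rw [hab]
  exact fun h' => hbv (v.isPrime.mem_of_pow_mem _ h')

theorem domOpen_eq_top_of_irrelevant_le (h : ℬ₊ ≤ 𝒜₊.map φ) : RelCone.domOpen φ = ⊤ := by
  refine top_le_iff.mp fun v _ => ?_
  rw [RelCone.mem_domOpen]
  by_contra hcon
  push Not at hcon
  refine v.not_irrelevant_le (h.trans ?_)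
  exact Ideal.map_le_iff_le_comap.mpr fun a ha => hcon a ha

end Ring

theorem irrelevant_le_map_of_isPushout {R R' A A' : CommRingCat.{u}} {𝒜 : ℕ → AddSubgroup A} [GradedRing 𝒜]
    {𝒜' : ℕ → AddSubgroup A'} [GradedRing 𝒜'] (φ : 𝒜 →+*ᵍ 𝒜') (ρ : R ⟶ R') (sA : R ⟶ A) (sA' : R' ⟶ A')
    (hs' : ∀ r, sA'.hom r ∈ 𝒜' 0) (hpo : IsPushout ρ sA sA' (CommRingCat.ofHom (φ : A →+* A'))) :
    𝒜'₊ ≤ 𝒜₊.map φ := by
  classical
  letI : Algebra R R' := ρ.hom.toAlgebra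
  letI : Algebra R A := sA.hom.toAlgebra
  letI : Algebra R' A' := sA'.hom.toAlgebra
  letI : Algebra A A' := (φ : A →+* A').toAlgebra
  letI : Algebra R A' := ((φ : A →+* A').comp sA.hom).toAlgebra
  haveI : IsScalarTower R A A' := IsScalarTower.of_algebraMap_eq' rfl
  haveI : IsScalarTower R R' A' := IsScalarTower.of_algebraMap_eq fun r => (ConcreteCategory.congr_hom hpo.w r).symm
  haveI : Algebra.IsPushout R R' A A' := CommRingCat.isPushout_iff_isPushout.1 hpo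
  have h : IsBaseChange R' (IsScalarTower.toAlgHom R A A').toLinearMap := Algebra.IsPushout.out
  let K : Submodule R' A' :=
    { carrier := {a | ∀ n, 0 < n → (DirectSum.decompose 𝒜' a n : A') ∈ (𝒜₊.map φ).toIdeal}
      zero_mem' := fun n _ => by simp
      add_mem' := fun ha hb n hn => by
        rw [DirectSum.decompose_add, DirectSum.add_apply, AddMemClass.coe_add]
        exact add_mem (ha n hn) (hb n hn)
      smul_mem' := fun r a ha n hn => by
        rw [Algebra.smul_def,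
          DirectSum.coe_decompose_mul_of_left_mem_of_le 𝒜' (show algebraMap R' A' r ∈ 𝒜' 0 from hs' r) (Nat.zero_le n),
          Nat.sub_zero]
        exact Ideal.mul_mem_left _ _ (ha n hn) }
  have htop : ∀ a, a ∈ K := fun a => by
    induction a using h.inductionOn with
    | zero => exact K.zero_mem
    | tmul x =>
      intro n hn
      show (DirectSum.decompose 𝒜' (φ x) n : A') ∈ _
      rw [← φ.map_directSumDecompose]
      exact Ideal.mem_map_of_mem φ (HomogeneousIdeal.mem_irrelevant_of_mem _ hn (SetLike.coe_mem _))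
    | smul r a ha => exact K.smul_mem r ha
    | add a b ha hb => exact K.add_mem ha hb
  exact (HomogeneousIdeal.irrelevant_le _).mpr fun n hn a ha => by
    have := htop a n hn
    rw [DirectSum.decompose_of_mem_same _ (show a ∈ 𝒜' n from ha)] at this
    exact this

variable {S S' : Scheme.{u}} {g : S' ⟶ S} {𝒮 : RelProj.QCGrAlg S} {𝒮' : RelProj.QCGrAlg S'}
  (u : RelProj.QGrHom g 𝒮 𝒮')
  {P : Scheme.{u}} {p : P ⟶ S}
  {chart : ∀ (U : S.Opens) (hU : IsAffineOpen U), (((p ⁻¹ᵁ U : P.Opens) : Scheme.{u}) ≅ Proj (𝒮.deg U hU))}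
  {P' : Scheme.{u}} {p' : P' ⟶ S'}
  {chart' : ∀ (U' : S'.Opens) (hU' : IsAffineOpen U'), (((p' ⁻¹ᵁ U' : P'.Opens) : Scheme.{u}) ≅ Proj (𝒮'.deg U' hU'))}
  (hP : RelProj.IsRelProj 𝒮 p chart) (hP' : RelProj.IsRelProj 𝒮' p' chart')

include hP' in
theorem mem_domQ_iff {U : S.Opens} (hU : IsAffineOpen U) {U' : S'.Opens} (hU' : IsAffineOpen U')
    (hle : U' ≤ g ⁻¹ᵁ U) (v : Proj (𝒮'.deg U' hU')) :
    (RelProj.emb p' chart' U' hU').base v ∈ RelProj.domQ u p' chart' ↔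
      v ∈ RelCone.domOpen (u.gradedAt U hU U' hU' hle) := by
  refine ⟨fun hx => ?_, fun h => Opens.mem_iSup.mpr ⟨⟨(⟨U, hU⟩, ⟨U', hU'⟩), hle⟩, v, h, rfl⟩⟩
  obtain ⟨j, q, hq⟩ := exists_src_eq u _ hx
  have hy : p'.base ((RelProj.emb p' chart' U' hU').base v) ∈ U' := π_emb_mem U' hU' v
  have hyj : p'.base ((RelProj.emb p' chart' U' hU').base v) ∈ j.U' := by rw [← hq]; exact π_emb_mem j.U' j.hU' _
  obtain ⟨r, s, eW, hgy⟩ := exists_basicOpen_le_affine_inter hU j.hU _ ⟨hle hy, j.hle hyj⟩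
  obtain ⟨_, ⟨U₃', hU₃', rfl⟩, hy₃, hsub⟩ := S'.isBasis_affineOpens.exists_subset_of_mem_open
    (show p'.base ((RelProj.emb p' chart' U' hU').base v) ∈ (U' ⊓ j.U' ⊓ g ⁻¹ᵁ S.basicOpen r : S'.Opens) from
      ⟨⟨hy, hyj⟩, hgy⟩) (U' ⊓ j.U' ⊓ g ⁻¹ᵁ S.basicOpen r).isOpen
  obtain ⟨v₃, hv₃⟩ := exists_point (chart := chart') U₃' hU₃' _ hy₃
  have hle₃ : U₃' ≤ g ⁻¹ᵁ S.basicOpen r := fun _ h => (hsub h).2
  have hj₃ := mem_src u hP' j (hU.basicOpen r) hU₃' hle₃ (eW.trans_le (S.basicOpen_le s)) (fun _ h => (hsub h).1.2)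
    ⟨q, hq.trans hv₃.symm⟩
  rw [RelCone.mem_domOpen]
  by_contra hcon
  push Not at hcon
  refine hj₃ ?_
  have hle2 : Ideal.map (𝒮.res hU (hU.basicOpen r) (S.basicOpen_le r)) ((𝒮.deg U hU)₊.toIdeal) ≤
      v₃.asHomogeneousIdeal.toIdeal.comap (u.gradedAt (S.basicOpen r) (hU.basicOpen r) U₃' hU₃' hle₃) :=
    Ideal.map_le_iff_le_comap.mpr fun a ha => by
      show u.gradedAt (S.basicOpen r) (hU.basicOpen r) U₃' hU₃' hle₃ (𝒮.res hU _ _ a) ∈ v₃.asHomogeneousIdeal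
      rw [← res_gradedAt u hU hU' (hU.basicOpen r) hU₃' hle hle₃ (S.basicOpen_le r) (fun _ h => (hsub h).1.1) a]
      exact (point_compat hP' hU' hU₃' (fun _ h => (hsub h).1.1) hv₃.symm _).mpr (hcon a ha)
  exact hle2 (𝒮.irrelevant_le_map U hU r
    (HomogeneousIdeal.mem_irrelevant_of_mem _ j.hd ((𝒮.res j.hU (hU.basicOpen r) (eW.trans_le (S.basicOpen_le s))).2 j.hf)))

include hP' in
theorem domQ_inf_eq {U : S.Opens} (hU : IsAffineOpen U) {U' : S'.Opens} (hU' : IsAffineOpen U') (hle : U' ≤ g ⁻¹ᵁ U) :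
    RelProj.domQ u p' chart' ⊓ p' ⁻¹ᵁ U' =
      RelProj.emb p' chart' U' hU' ''ᵁ RelCone.domOpen (u.gradedAt U hU U' hU' hle) := by
  refine le_antisymm (fun x hx => ?_) fun x hx => ?_
  · obtain ⟨v, rfl⟩ := exists_point (chart := chart') U' hU' x hx.2
    exact ⟨v, (mem_domQ_iff u hP' hU hU' hle v).mp hx.1, rfl⟩
  · obtain ⟨v, hv, rfl⟩ := hx
    exact ⟨(mem_domQ_iff u hP' hU hU' hle v).mpr hv, π_emb_mem U' hU' v⟩

theorem domQ_eq_top
    (h : ∀ y : S', ∃ (U : S.Opens) (hU : IsAffineOpen U) (U' : S'.Opens) (hU' : IsAffineOpen U') (hle : U' ≤ g ⁻¹ᵁ U),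
      y ∈ U' ∧ RelCone.domOpen (u.gradedAt U hU U' hU' hle) = ⊤) :
    RelProj.domQ u p' chart' = ⊤ := by
  refine top_le_iff.mp fun x _ => ?_
  obtain ⟨U, hU, U', hU', hle, hy, htop⟩ := h (p'.base x)
  obtain ⟨v, rfl⟩ := exists_point (chart := chart') U' hU' x hy
  exact Opens.mem_iSup.mpr ⟨⟨(⟨U, hU⟩, ⟨U', hU'⟩), hle⟩, v, by rw [htop]; trivial, rfl⟩

theorem isIso_ι_of_eq_top {X : Scheme.{u}} (W : X.Opens) (h : W = ⊤) : IsIso W.ι := by
  subst h
  exact inferInstanceAs (IsIso X.topIso.hom)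

theorem isProjQMapOn_of_isProjQMap {h : P' ⟶ P} (hh : RelProj.IsProjQMap u p chart p' chart' h) :
    RelProj.IsProjQMapOn u p chart p' chart' (RelProj.domQ u p' chart') ((RelProj.domQ u p' chart').ι ≫ h) := by
  intro U hU U' hU' hle d hd f hf hW
  rw [IsOpenImmersion.lift_fac_assoc]
  exact hh.2 U hU U' hU' hle d hd f hf

include hP hP' in
theorem existsUnique_isProjQMap (htop : RelProj.domQ u p' chart' = ⊤) :
    ∃! h : P' ⟶ P, RelProj.IsProjQMap u p chart p' chart' h := by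
  haveI := isIso_ι_of_eq_top _ htop
  obtain ⟨v, hv, huniq⟩ := existsUnique_on u hP hP'
  refine ⟨inv (RelProj.domQ u p' chart').ι ≫ v, ⟨htop, fun U hU U' hU' hle d hd f hf => ?_⟩, fun h hh => ?_⟩
  · rw [← hv U hU U' hU' hle d hd f hf
      (RelProj.range_awayEmb_subset_domQ u p' chart' U hU U' hU' hle hd f hf), ← Category.assoc]
    refine congrArg (· ≫ v) ?_
    rw [IsIso.comp_inv_eq, IsOpenImmersion.lift_fac]
  · rw [← huniq _ (isProjQMapOn_of_isProjQMap u hh), IsIso.inv_hom_id_assoc]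

include hP hP' in
theorem isProjQMap_comp_base {h : P' ⟶ P} (hh : RelProj.IsProjQMap u p chart p' chart' h) : h ≫ p = p' ≫ g := by
  haveI := isIso_ι_of_eq_top _ hh.1
  have e := comp_base u hP hP' (isProjQMapOn_of_isProjQMap u hh)
  rw [Category.assoc] at e
  exact (cancel_epi _).mp e

/-- The cover of a relative `Proj` by standard charts. -/
def aCover : Scheme.OpenCover.{u} P where
  I₀ := Σ' (U : S.Opens) (_ : IsAffineOpen U) (d : ℕ) (_ : 0 < d) (f : 𝒮.presheaf.obj (op U)), ∀ hU, f ∈ 𝒮.deg U hU d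
  X j := Spec (CommRingCat.of (Away (𝒮.deg j.1 j.2.1) j.2.2.2.2.1))
  f j := aEmb p chart j.1 j.2.1 j.2.2.2.1 j.2.2.2.2.1 (j.2.2.2.2.2 j.2.1)
  mem₀ := by
    rw [Scheme.presieve₀_mem_precoverage_iff]
    refine ⟨fun x => ?_, fun j => inferInstance⟩
    obtain ⟨⟨U, hU⟩, hx⟩ := Opens.mem_iSup.mp ((iSup_affineOpens_eq_top S).ge (trivial : p.base x ∈ (⊤ : S.Opens)))
    obtain ⟨v, rfl⟩ := exists_point (chart := chart) U hU x hx
    obtain ⟨d, hd, f, hf, hfv⟩ := (PConeImm.exists_homogeneous_not_mem (𝒜 := 𝒮.deg U hU)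
      (p := v.asHomogeneousIdeal.toIdeal)).mp (Set.not_subset.mp v.not_irrelevant_le)
    obtain ⟨q, hq⟩ := (mem_range_aEmb (p := p) (chart := chart) U hU hd f hf v).mpr hfv
    exact ⟨⟨U, hU, d, hd, f, fun _ => hf⟩, q, hq⟩

include hP hP' in
/-- A property local at the target is checked on `Spec` of the maps of degree-zero localizations, when
`g` has affine inverse images. -/
theorem property_on {Φ : ((RelProj.domQ u p' chart' : P'.Opens) : Scheme.{u}) ⟶ P}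
    (hΦ : RelProj.IsProjQMapOn u p chart p' chart' (RelProj.domQ u p' chart') Φ)
    (Q : MorphismProperty Scheme.{u}) [IsZariskiLocalAtTarget Q]
    (hg : ∀ U : S.Opens, IsAffineOpen U → IsAffineOpen (g ⁻¹ᵁ U))
    (H : ∀ (U : S.Opens) (hU : IsAffineOpen U) (d : ℕ) (_ : 0 < d) (f : 𝒮.presheaf.obj (op U)), f ∈ 𝒮.deg U hU d →
      Q (Spec.map (CommRingCat.ofHom (Away.map (u.gradedAt U hU (g ⁻¹ᵁ U) (hg U hU) le_rfl) f)))) : Q Φ := by
  refine IsZariskiLocalAtTarget.of_openCover (aCover (p := p) (chart := chart)) fun k => ?_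
  obtain ⟨U, hU, d, hd, f, hf⟩ := k
  let j : Idx (g := g) (𝒮 := 𝒮) := ⟨U, hU, g ⁻¹ᵁ U, hg U hU, le_rfl, d, hd, f, hf hU⟩
  haveI : IsOpenImmersion (j.lift u (p' := p') (chart' := chart')) := (cover u).map_prop j
  have hpb : IsPullback (Spec.map (CommRingCat.ofHom (Away.map (j.ψ u) f))) (j.lift u (p' := p') (chart' := chart'))
      (aEmb p chart U hU hd f (hf hU)) Φ := by
    refine IsOpenImmersion.isPullback _ _ _ _ (lift_comp u hΦ j) ?_
    refine le_antisymm (fun x hx => ?_) (fun x hx => ?_)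
    · obtain ⟨q, hq⟩ := hx
      have hy : p'.base x.1 ∈ g ⁻¹ᵁ U := by
        show g.base (p'.base x.1) ∈ U
        have e := congrArg (fun m : ((RelProj.domQ u p' chart' : P'.Opens) : Scheme.{u}) ⟶ S => m.base x) (comp_base u hP hP' hΦ)
        have h1 : p.base (Φ.base x) ∈ U := hq ▸ π_emb_mem U hU _
        exact (show p.base (Φ.base x) = g.base (p'.base x.1) from e) ▸ h1
      obtain ⟨v, hv⟩ := exists_point (chart := chart') (g ⁻¹ᵁ U) (hg U hU) x.1 hy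
      have hfv := (mem_preimage_iff u hP hP' hΦ x hU (hg U hU) le_rfl v hv hd f (hf hU)).mp ⟨q, hq⟩
      obtain ⟨q', hq'⟩ := (mem_range_aEmb (p := p') (chart := chart') (g ⁻¹ᵁ U) (hg U hU) hd (j.ψ u f)
        ((j.ψ u).2 (hf hU)) v).mpr hfv
      refine ⟨q', (RelProj.domQ u p' chart').ι.isOpenEmbedding.injective ?_⟩
      rw [← Scheme.Hom.comp_apply, lift_fac u j]
      exact hq'.trans hv
    · obtain ⟨q, rfl⟩ := hx
      show Φ.base _ ∈ Set.range (aEmb p chart U hU hd f (hf hU)).base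
      rw [← Scheme.Hom.comp_apply, lift_comp u hΦ j]
      exact ⟨_, rfl⟩
  refine (Q.arrow_mk_iso_iff ?_).mp (H U hU d hd f (hf hU))
  exact Arrow.isoMk hpb.flip.isoPullback (Iso.refl _) (by exact hpb.flip.isoPullback_hom_snd.trans (Category.comp_id _).symm)

include hP hP' in
theorem property_of_isProjQMap {h : P' ⟶ P} (hh : RelProj.IsProjQMap u p chart p' chart' h)
    (Q : MorphismProperty Scheme.{u}) [IsZariskiLocalAtTarget Q]
    (hg : ∀ U : S.Opens, IsAffineOpen U → IsAffineOpen (g ⁻¹ᵁ U))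
    (H : ∀ (U : S.Opens) (hU : IsAffineOpen U) (d : ℕ) (_ : 0 < d) (f : 𝒮.presheaf.obj (op U)), f ∈ 𝒮.deg U hU d →
      Q (Spec.map (CommRingCat.ofHom (Away.map (u.gradedAt U hU (g ⁻¹ᵁ U) (hg U hU) le_rfl) f)))) : Q h := by
  haveI := isIso_ι_of_eq_top _ hh.1
  exact (Q.cancel_left_of_respectsIso _ h).mp
    (property_on u hP hP' (isProjQMapOn_of_isProjQMap u hh) Q hg H)

include hP hP' in
theorem isPullback_of_isQBaseChange (hu : RelSpec.IsQBaseChange u.toQHom) :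
    (∃ h : P' ⟶ P, RelProj.IsProjQMap u p chart p' chart' h) ∧
      ∀ h : P' ⟶ P, RelProj.IsProjQMap u p chart p' chart' h → IsPullback h p' p g := by
  have hirr : ∀ (U : S.Opens) (hU : IsAffineOpen U) (U' : S'.Opens) (hU' : IsAffineOpen U') (hle : U' ≤ g ⁻¹ᵁ U),
      (𝒮'.deg U' hU')₊ ≤ ((𝒮.deg U hU)₊).map (u.gradedAt U hU U' hU' hle) := fun U hU U' hU' hle =>
    irrelevant_le_map_of_isPushout (u.gradedAt U hU U' hU' hle) _ _ _ (𝒮'.str_mem U' hU') (hu U hU U' hU' hle)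
  refine ⟨(existsUnique_isProjQMap u hP hP' (domQ_eq_top u fun y => ?_)).exists, fun h hh => ?_⟩
  · obtain ⟨q, hq, -, -⟩ := RSGlue.exists_pair_le g y ⊤ ⊤ trivial trivial
    exact ⟨q.U, q.hU, q.U', q.hU', q.hle, hq, domOpen_eq_top_of_irrelevant_le _ (hirr q.U q.hU q.U' q.hU' q.hle)⟩
  · refine RPBC.isPullback hP hP' (fun U hU U' hU' hle => u.gradedAt U hU U' hU' hle) hirr hu h
      fun U hU U' hU' hle => ?_
    rw [← Iso.inv_comp_eq, ← Category.assoc]
    refine (Proj.mapAffineOpenCover _ (hirr U hU U' hU' hle)).openCover.hom_ext _ _ fun k => ?_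
    obtain ⟨d, f, hf⟩ := k
    refine Eq.trans ?_ ((hh.2 U hU U' hU' hle d d.pos f hf).trans ?_)
    · exact (Category.assoc _ _ _).symm
    · exact (Proj.awayι_comp_map_assoc _ _ d.pos f hf _).symm

end Groth.L18.QMap

namespace Groth.L18.QMap

open HomogeneousIdeal CategoryTheory AlgebraicGeometry CategoryTheory.Limits Opposite TopologicalSpace

universe w

variable {S : Scheme.{w}} {𝒜 ℬ : RelProj.QCGrAlg S} (φ : 𝒜.toQCAlg ⟶ ℬ.toQCAlg) (hφ : RelProj.IsGradedHom φ)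

theorem gradedAt_ofHom_apply (U : S.Opens) (hU : IsAffineOpen U) (hle : U ≤ (𝟙 S) ⁻¹ᵁ U) (x : 𝒜.presheaf.obj (op U)) :
    (RelProj.QGrHom.ofHom φ hφ).gradedAt U hU U hU hle x = (φ.hom.app (op U)).hom x := by
  show (ℬ.presheaf.map (homOfLE hle).op).hom ((φ.hom.app (op U)).hom x) = _
  exact ConcreteCategory.congr_hom (ℬ.presheaf.map_id (op U)) ((φ.hom.app (op U)).hom x)

theorem gradedAt_ofHom (U : S.Opens) (hU : IsAffineOpen U) (hle : U ≤ (𝟙 S) ⁻¹ᵁ U) :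
    (RelProj.QGrHom.ofHom φ hφ).gradedAt U hU U hU hle = RelProj.gradedHomAt φ hφ U hU :=
  DFunLike.ext _ _ fun x => gradedAt_ofHom_apply φ hφ U hU hle x

end Groth.L18.QMap
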