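import Groth.Agent.L18.QMap.Point
import Groth.Agent.L18.ProjConeInfinity

/-!
# The morphism `Proj(u)` of a graded q-morphism on its open of definition
-/

noncomputable section

namespace Groth.L18.QMap

open HomogeneousIdeal CategoryTheory AlgebraicGeometry CategoryTheory.Limits Opposite TopologicalSpace
open HomogeneousLocalization
open Groth.L18

universe u

variable {S S' : Scheme.{u}} {g : S' ⟶ S} {𝒮 : RelProj.QCGrAlg S} {𝒮' : RelProj.QCGrAlg S'}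
  (u : RelProj.QGrHom g 𝒮 𝒮')
  {P : Scheme.{u}} (p : P ⟶ S)
  (chart : ∀ (U : S.Opens) (hU : IsAffineOpen U), (((p ⁻¹ᵁ U : P.Opens) : Scheme.{u}) ≅ Proj (𝒮.deg U hU)))
  {P' : Scheme.{u}} (p' : P' ⟶ S')
  (chart' : ∀ (U' : S'.Opens) (hU' : IsAffineOpen U'), (((p' ⁻¹ᵁ U' : P'.Opens) : Scheme.{u}) ≅ Proj (𝒮'.deg U' hU')))

/-- Indices of the standard charts of `G(u)`. -/
structure Idx where
  U : S.Opens
  hU : IsAffineOpen U
  U' : S'.Opens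
  hU' : IsAffineOpen U'
  hle : U' ≤ g ⁻¹ᵁ U
  d : ℕ
  hd : 0 < d
  f : 𝒮.presheaf.obj (op U)
  hf : f ∈ 𝒮.deg U hU d

/-- The graded ring map over the affine pair of an index. -/
abbrev Idx.ψ (j : Idx (g := g) (𝒮 := 𝒮)) : 𝒮.deg j.U j.hU →+*ᵍ 𝒮'.deg j.U' j.hU' :=
  u.gradedAt j.U j.hU j.U' j.hU' j.hle

/-- The source chart. -/
abbrev Idx.src (j : Idx (g := g) (𝒮 := 𝒮)) : Spec (CommRingCat.of (Away (𝒮'.deg j.U' j.hU') (j.ψ u j.f))) ⟶ P' :=
  aEmb p' chart' j.U' j.hU' j.hd (j.ψ u j.f) ((j.ψ u).2 j.hf)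

/-- The morphism on the source chart. -/
abbrev Idx.tgt (j : Idx (g := g) (𝒮 := 𝒮)) : Spec (CommRingCat.of (Away (𝒮'.deg j.U' j.hU') (j.ψ u j.f))) ⟶ P :=
  Spec.map (CommRingCat.ofHom (Away.map (j.ψ u) j.f)) ≫ aEmb p chart j.U j.hU j.hd j.f j.hf

theorem res_gradedAt {U U₃ : S.Opens} {U' U₃' : S'.Opens} (hU : IsAffineOpen U) (hU' : IsAffineOpen U')
    (hU₃ : IsAffineOpen U₃) (hU₃' : IsAffineOpen U₃') (hle : U' ≤ g ⁻¹ᵁ U) (hle₃ : U₃' ≤ g ⁻¹ᵁ U₃)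
    (i : U₃ ≤ U) (i' : U₃' ≤ U') (a : 𝒮.presheaf.obj (op U)) :
    𝒮'.res hU' hU₃' i' (u.gradedAt U hU U' hU' hle a) = u.gradedAt U₃ hU₃ U₃' hU₃' hle₃ (𝒮.res hU hU₃ i a) := by
  have h : u.appLE U U' hle ≫ 𝒮'.presheaf.map (homOfLE i').op =
      𝒮.presheaf.map (homOfLE i).op ≫ u.appLE U₃ U₃' hle₃ := by
    rw [RelSpec.QHom.appLE_map, RelSpec.QHom.map_appLE]
  exact ConcreteCategory.congr_hom h a

variable {p chart p' chart'} (hP : RelProj.IsRelProj 𝒮 p chart) (hP' : RelProj.IsRelProj 𝒮' p' chart')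

include hP hP'

/-- Charts over smaller pairs factor through charts over larger ones. -/
theorem exists_factor (j : Idx (g := g) (𝒮 := 𝒮)) {U₃ : S.Opens} (hU₃ : IsAffineOpen U₃) {U₃' : S'.Opens}
    (hU₃' : IsAffineOpen U₃') (hle₃ : U₃' ≤ g ⁻¹ᵁ U₃) (i : U₃ ≤ j.U) (i' : U₃' ≤ j.U')
    {e : ℕ} (g₃ : 𝒮.presheaf.obj (op U₃)) (hg₃ : g₃ ∈ 𝒮.deg U₃ hU₃ e)
    {D : ℕ} (hD : D = j.d + e) (hDpos : 0 < D) (x : 𝒮.presheaf.obj (op U₃)) (hx : x ∈ 𝒮.deg U₃ hU₃ D)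
    (hxeq : x = 𝒮.res j.hU hU₃ i j.f * g₃) :
    ∃ l, l ≫ j.src u p' chart' = (⟨U₃, hU₃, U₃', hU₃', hle₃, D, hDpos, x, hx⟩ : Idx).src u p' chart' ∧
      l ≫ j.tgt u p chart = (⟨U₃, hU₃, U₃', hU₃', hle₃, D, hDpos, x, hx⟩ : Idx).tgt u p chart := by
  subst hD
  obtain ⟨U, hU, U', hU', hle, d, hd, f, hf⟩ := j
  let ψ := u.gradedAt U hU U' hU' hle
  let ψ₃ := u.gradedAt U₃ hU₃ U₃' hU₃' hle₃
  let f₃ := 𝒮.res hU hU₃ i f
  have hf₃ : f₃ ∈ 𝒮.deg U₃ hU₃ d := (𝒮.res hU hU₃ i).2 hf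
  have e' : 𝒮'.res hU' hU₃' i' (ψ f) = ψ₃ f₃ := res_gradedAt u hU hU' hU₃ hU₃' hle hle₃ i i' f
  have hx' : ψ₃ x = ψ₃ f₃ * ψ₃ g₃ := by rw [hxeq, map_mul]
  refine ⟨Spec.map (CommRingCat.ofHom (awayMap (𝒮'.deg U₃' hU₃') (ψ₃.2 hg₃) hx')) ≫
    Spec.map (CommRingCat.ofHom (PConeImm.awayMapTo (𝒮'.res hU' hU₃' i') (ψ f) (ψ₃ f₃) e')), ?_, ?_⟩
  · dsimp only [Idx.src, Idx.ψ]
    rw [Category.assoc, aEmb_res hP' hU' hU₃' i' hd (ψ f) (ψ.2 hf) (ψ₃ f₃) (ψ₃.2 hf₃) e', aEmb, aEmb,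
      ← Category.assoc]
    refine congrArg (· ≫ RelProj.emb p' chart' U₃' hU₃') ?_
    exact Proj.SpecMap_awayMap_awayι _ _ _ _ _
  · dsimp only [Idx.tgt, Idx.ψ]
    have h1 : (PConeImm.awayMapTo (𝒮'.res hU' hU₃' i') (ψ f) (ψ₃ f₃) e').comp (Away.map ψ f) =
        (Away.map ψ₃ f₃).comp (PConeImm.awayMapTo (𝒮.res hU hU₃ i) f f₃ rfl) := by
      refine RingHom.ext fun q => ?_
      obtain ⟨n, a, ha, rfl⟩ := Away.mk_surjective (𝒮.deg U hU) hf q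
      simp only [RingHom.comp_apply, PConeImm.awayMapTo_val, Away.map_mk]
      refine val_injective _ ?_
      simp only [Away.val_mk]
      rw [res_gradedAt u hU hU' hU₃ hU₃' hle hle₃ i i' a]
    have h2 := map_awayMap ψ₃ f₃ g₃ x hf₃ hg₃ hxeq hx'
    rw [Category.assoc, ← Category.assoc (Spec.map (CommRingCat.ofHom
        (PConeImm.awayMapTo (𝒮'.res hU' hU₃' i') (ψ f) (ψ₃ f₃) e'))), ← Spec.map_comp, ← CommRingCat.ofHom_comp,
      h1, CommRingCat.ofHom_comp, Spec.map_comp, Category.assoc,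
      aEmb_res hP hU hU₃ i hd f hf f₃ hf₃ rfl, ← Category.assoc, ← Spec.map_comp, ← CommRingCat.ofHom_comp,
      h2, CommRingCat.ofHom_comp, Spec.map_comp, Category.assoc, aEmb, aEmb, ← Category.assoc
        (Spec.map (CommRingCat.ofHom (awayMap (𝒮.deg U₃ hU₃) hg₃ hxeq)))]
    refine congrArg (Spec.map (CommRingCat.ofHom (Away.map ψ₃ x)) ≫ ·) (congrArg (· ≫ RelProj.emb p chart U₃ hU₃) ?_)
    exact Proj.SpecMap_awayMap_awayι _ _ _ _ _

omit hP in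
/-- A point in a chart lies in the restricted chart. -/
theorem mem_src (j : Idx (g := g) (𝒮 := 𝒮)) {U₃ : S.Opens} (hU₃ : IsAffineOpen U₃) {U₃' : S'.Opens}
    (hU₃' : IsAffineOpen U₃') (hle₃ : U₃' ≤ g ⁻¹ᵁ U₃) (i : U₃ ≤ j.U) (i' : U₃' ≤ j.U')
    {v : Proj (𝒮'.deg U₃' hU₃')}
    (hv : (RelProj.emb p' chart' U₃' hU₃').base v ∈ Set.range (j.src u p' chart').base) :
    u.gradedAt U₃ hU₃ U₃' hU₃' hle₃ (𝒮.res j.hU hU₃ i j.f) ∉ v.asHomogeneousIdeal := by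
  obtain ⟨q, hq⟩ := hv
  rw [← res_gradedAt u j.hU j.hU' hU₃ hU₃' j.hle hle₃ i i' j.f]
  intro h
  have hh : (RelProj.emb p' chart' j.U' j.hU').base ((Proj.awayι (𝒮'.deg j.U' j.hU') _ ((j.ψ u).2 j.hf) j.hd).base q) =
      (RelProj.emb p' chart' U₃' hU₃').base v := hq
  exact (Proj.opensRange_awayι (𝒮'.deg j.U' j.hU') _ ((j.ψ u).2 j.hf) j.hd).le ⟨q, rfl⟩
    ((point_compat hP' j.hU' hU₃' i' hh (j.ψ u j.f)).mp h)

omit hP in
theorem exists_pair (j k : Idx (g := g) (𝒮 := 𝒮)) (y : S') (hj : y ∈ j.U') (hk : y ∈ k.U') :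
    ∃ q : RSGlue.Pair g, y ∈ q.U' ∧ q.U ≤ j.U ∧ q.U ≤ k.U ∧ q.U' ≤ j.U' ∧ q.U' ≤ k.U' := by
  obtain ⟨q, h, h1, h2⟩ := RSGlue.exists_pair_le g y (j.U ⊓ k.U) (j.U' ⊓ k.U') ⟨hj, hk⟩ ⟨j.hle hj, k.hle hk⟩
  exact ⟨q, h, h1.trans inf_le_left, h1.trans inf_le_right, h2.trans inf_le_left, h2.trans inf_le_right⟩

theorem compat (j k : Idx (g := g) (𝒮 := 𝒮)) :
    pullback.fst (j.src u p' chart') (k.src u p' chart') ≫ j.tgt u p chart =
      pullback.snd (j.src u p' chart') (k.src u p' chart') ≫ k.tgt u p chart := by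
  refine RSGlue.hom_ext_of_range _ _ fun z => ?_
  set x := (pullback.fst (j.src u p' chart') (k.src u p' chart') ≫ j.src u p' chart').base z with hxdef
  have hxj : x ∈ Set.range (j.src u p' chart').base := ⟨_, rfl⟩
  have hxk : x ∈ Set.range (k.src u p' chart').base := by rw [hxdef, pullback.condition]; exact ⟨_, rfl⟩
  have hyj : p'.base x ∈ j.U' := by obtain ⟨q, hq⟩ := hxj; rw [← hq]; exact π_emb_mem j.U' j.hU' _
  have hyk : p'.base x ∈ k.U' := by obtain ⟨q, hq⟩ := hxk; rw [← hq]; exact π_emb_mem k.U' k.hU' _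
  obtain ⟨q, hy, hjU, hkU, hjU', hkU'⟩ := exists_pair hP' j k _ hyj hyk
  obtain ⟨v, hv⟩ := exists_point (chart := chart') q.U' q.hU' x hy
  rw [← hv] at hxj hxk
  have hvj := mem_src u hP' j q.hU q.hU' q.hle hjU hjU' hxj
  have hvk := mem_src u hP' k q.hU q.hU' q.hle hkU hkU' hxk
  let fj := 𝒮.res j.hU q.hU hjU j.f
  let fk := 𝒮.res k.hU q.hU hkU k.f
  have hfjk : fj * fk ∈ 𝒮.deg q.U q.hU (j.d + k.d) :=
    SetLike.mul_mem_graded ((𝒮.res j.hU q.hU hjU).2 j.hf) ((𝒮.res k.hU q.hU hkU).2 k.hf)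
  let m : Idx (g := g) (𝒮 := 𝒮) :=
    ⟨q.U, q.hU, q.U', q.hU', q.hle, j.d + k.d, Nat.add_pos_left j.hd _, fj * fk, hfjk⟩
  obtain ⟨lj, hlj, hlj'⟩ := exists_factor u hP hP' j q.hU q.hU' q.hle hjU hjU' fk
    ((𝒮.res k.hU q.hU hkU).2 k.hf) (D := j.d + k.d) rfl (Nat.add_pos_left j.hd _) (fj * fk) hfjk rfl
  obtain ⟨lk, hlk, hlk'⟩ := exists_factor u hP hP' k q.hU q.hU' q.hle hkU hkU' fj
    ((𝒮.res j.hU q.hU hjU).2 j.hf) (D := j.d + k.d) (add_comm _ _) (Nat.add_pos_left j.hd _) (fj * fk) hfjk (mul_comm _ _)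
  let l := pullback.lift lj lk (hlj.trans hlk.symm)
  have hl : l ≫ pullback.fst _ _ ≫ j.src u p' chart' = m.src u p' chart' := by
    rw [pullback.lift_fst_assoc]; exact hlj
  obtain ⟨w, hw⟩ := (mem_range_aEmb (p := p') (chart := chart') q.U' q.hU' m.hd (m.ψ u m.f) ((m.ψ u).2 m.hf) v).mpr
    (fun h => (v.isPrime.mem_or_mem (show u.gradedAt q.U q.hU q.U' q.hU' q.hle fj *
      u.gradedAt q.U q.hU q.U' q.hU' q.hle fk ∈ v.asHomogeneousIdeal.toIdeal by rw [← map_mul]; exact h)).elim hvj hvk)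
  refine ⟨_, l, ?_, ⟨w, ?_⟩, ?_⟩
  · haveI : IsOpenImmersion (l ≫ pullback.fst _ _ ≫ j.src u p' chart') := by rw [hl]; infer_instance
    exact IsOpenImmersion.of_comp l (pullback.fst (j.src u p' chart') (k.src u p' chart') ≫ j.src u p' chart')
  · refine (pullback.fst (j.src u p' chart') (k.src u p' chart') ≫ j.src u p' chart').isOpenEmbedding.injective ?_
    rw [← Scheme.Hom.comp_apply, hl]
    exact hw.trans hv
  · rw [pullback.lift_fst_assoc, pullback.lift_snd_assoc, hlj', hlk']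

omit hP hP' in
theorem src_eq_awayEmb (j : Idx (g := g) (𝒮 := 𝒮)) :
    j.src u p' chart' = RelProj.awayEmb u p' chart' j.U j.hU j.U' j.hU' j.hle j.hd j.f j.hf := rfl

/-- The chart lifted to `G(u)`. -/
abbrev Idx.lift (j : Idx (g := g) (𝒮 := 𝒮)) :
    Spec (CommRingCat.of (Away (𝒮'.deg j.U' j.hU') (j.ψ u j.f))) ⟶ ((RelProj.domQ u p' chart' : P'.Opens) : Scheme.{u}) :=
  IsOpenImmersion.lift (RelProj.domQ u p' chart').ι (RelProj.awayEmb u p' chart' j.U j.hU j.U' j.hU' j.hle j.hd j.f j.hf)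
    (RelProj.range_awayEmb_subset_domQ u p' chart' j.U j.hU j.U' j.hU' j.hle j.hd j.f j.hf)

omit hP hP' in
theorem lift_fac (j : Idx (g := g) (𝒮 := 𝒮)) :
    j.lift u (p' := p') (chart' := chart') ≫ (RelProj.domQ u p' chart').ι = j.src u p' chart' :=
  IsOpenImmersion.lift_fac _ _ _

omit hP hP' in
theorem exists_src_eq (x : P') (hx : x ∈ RelProj.domQ u p' chart') :
    ∃ (j : Idx (g := g) (𝒮 := 𝒮)) (q : _), (j.src u p' chart').base q = x := by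
  obtain ⟨⟨⟨⟨U, hU⟩, ⟨U', hU'⟩⟩, hle⟩, v, hv, rfl⟩ := Opens.mem_iSup.mp hx
  obtain ⟨f, hf, hfv⟩ := (RelCone.mem_domOpen _ _).mp hv
  obtain ⟨d, hd, f', hf', hfv'⟩ := (PConeImm.exists_homogeneous_not_mem
    (p := v.asHomogeneousIdeal.toIdeal.comap (u.gradedAt U hU U' hU' hle))).mp ⟨f, hf, hfv⟩
  exact ⟨⟨U, hU, U', hU', hle, d, hd, f', hf'⟩,
    (mem_range_aEmb (p := p') (chart := chart') U' hU' hd _ ((u.gradedAt U hU U' hU' hle).2 hf') v).mpr hfv'⟩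

/-- The cover of `G(u)` by standard charts. -/
def cover : Scheme.OpenCover.{u} ((RelProj.domQ u p' chart' : P'.Opens) : Scheme.{u}) where
  I₀ := Idx (g := g) (𝒮 := 𝒮)
  X j := Spec (CommRingCat.of (Away (𝒮'.deg j.U' j.hU') (j.ψ u j.f)))
  f j := j.lift u
  mem₀ := by
    rw [Scheme.presieve₀_mem_precoverage_iff]
    refine ⟨fun x => ?_, fun j => ?_⟩
    · obtain ⟨j, q, hq⟩ := exists_src_eq u x.1 x.2
      refine ⟨j, q, (RelProj.domQ u p' chart').ι.isOpenEmbedding.injective ?_⟩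
      rw [← Scheme.Hom.comp_apply, lift_fac u j, hq]
      rfl
    · haveI : IsOpenImmersion (j.lift u (p' := p') (chart' := chart') ≫ (RelProj.domQ u p' chart').ι) := by
        rw [lift_fac u j]; infer_instance
      exact IsOpenImmersion.of_comp _ (RelProj.domQ u p' chart').ι

theorem existsUnique_on :
    ∃! v : ((RelProj.domQ u p' chart' : P'.Opens) : Scheme.{u}) ⟶ P,
      RelProj.IsProjQMapOn u p chart p' chart' (RelProj.domQ u p' chart') v := by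
  have hcompat : ∀ j k : Idx (g := g) (𝒮 := 𝒮),
      pullback.fst ((cover u (p' := p') (chart' := chart')).f j) ((cover u (p' := p') (chart' := chart')).f k) ≫
          j.tgt u p chart =
        pullback.snd ((cover u (p' := p') (chart' := chart')).f j) ((cover u (p' := p') (chart' := chart')).f k) ≫
          k.tgt u p chart := by
    intro j k
    have hw : pullback.fst ((cover u (p' := p') (chart' := chart')).f j) ((cover u).f k) ≫ j.src u p' chart' =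
        pullback.snd ((cover u (p' := p') (chart' := chart')).f j) ((cover u).f k) ≫ k.src u p' chart' := by
      rw [← lift_fac u j, ← lift_fac u k]
      exact (Category.assoc _ _ _).symm.trans
        ((congrArg (· ≫ (RelProj.domQ u p' chart').ι) pullback.condition).trans (Category.assoc _ _ _))
    have h := congrArg (pullback.lift _ _ hw ≫ ·) (compat u hP hP' j k)
    exact (pullback.lift_fst_assoc _ _ hw _).symm.trans (h.trans (pullback.lift_snd_assoc _ _ hw _))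
  refine ⟨(cover u).glueMorphisms (fun j => j.tgt u p chart) hcompat, fun U hU U' hU' hle d hd f hf hW => ?_,
    fun v hv => (cover u).hom_ext _ _ fun j => ?_⟩
  · exact (cover u).ι_glueMorphisms (fun j : Idx (g := g) (𝒮 := 𝒮) => j.tgt u p chart) hcompat
      ⟨U, hU, U', hU', hle, d, hd, f, hf⟩
  · exact (hv j.U j.hU j.U' j.hU' j.hle j.d j.hd j.f j.hf _).trans
      ((cover u).ι_glueMorphisms (fun j : Idx (g := g) (𝒮 := 𝒮) => j.tgt u p chart) hcompat j).symm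

variable {Φ : ((RelProj.domQ u p' chart' : P'.Opens) : Scheme.{u}) ⟶ P}
  (hΦ : RelProj.IsProjQMapOn u p chart p' chart' (RelProj.domQ u p' chart') Φ)

include hΦ

omit hP hP' in
theorem lift_comp (j : Idx (g := g) (𝒮 := 𝒮)) : j.lift u ≫ Φ = j.tgt u p chart :=
  hΦ j.U j.hU j.U' j.hU' j.hle j.d j.hd j.f j.hf _

theorem comp_base : Φ ≫ p = (RelProj.domQ u p' chart').ι ≫ p' ≫ g := by
  refine (cover u).hom_ext _ _ fun j => ?_
  show j.lift u ≫ Φ ≫ p = j.lift u ≫ (RelProj.domQ u p' chart').ι ≫ p' ≫ g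
  rw [← Category.assoc, lift_comp u hΦ j, ← Category.assoc (j.lift u), lift_fac u j]
  obtain ⟨U, hU, U', hU', hle, d, hd, f, hf⟩ := j
  dsimp only [Idx.tgt, Idx.src, Idx.ψ, aEmb, RelProj.emb]
  have hl : (chart U hU).inv ≫ (p ⁻¹ᵁ U).ι ≫ p =
      Proj.toSpecZero (𝒮.deg U hU) ≫ Spec.map (𝒮.strZero U hU) ≫ hU.fromSpec :=
    (RP.chart_ι_comp hP U hU).trans (RP.projBase_ι 𝒮 U hU)
  have hl' : (chart' U' hU').inv ≫ (p' ⁻¹ᵁ U').ι ≫ p' =
      Proj.toSpecZero (𝒮'.deg U' hU') ≫ Spec.map (𝒮'.strZero U' hU') ≫ hU'.fromSpec :=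
    (RP.chart_ι_comp hP' U' hU').trans (RP.projBase_ι 𝒮' U' hU')
  simp only [Category.assoc, hl, reassoc_of% hl', Proj.awayι_toSpecZero_assoc]
  rw [← hU.SpecMap_appLE_fromSpec g hU' hle]
  simp only [← Category.assoc]
  refine congrArg (· ≫ hU.fromSpec) ?_
  simp only [← Spec.map_comp]
  refine congrArg Spec.map (CommRingCat.hom_ext (RingHom.ext fun r => ?_))
  simp only [CommRingCat.hom_comp, RingHom.comp_apply, CommRingCat.hom_ofHom]
  exact RPLoc.away_fromZero (u.gradedAt U hU U' hU' hle) f hf _ _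
    (ConcreteCategory.congr_hom (u.str_appLE U U' hle) r)

/-- The inverse image of a standard chart. -/
theorem mem_preimage_iff (x : ((RelProj.domQ u p' chart' : P'.Opens) : Scheme.{u}))
    {U : S.Opens} (hU : IsAffineOpen U) {U' : S'.Opens} (hU' : IsAffineOpen U') (hle : U' ≤ g ⁻¹ᵁ U)
    (v : Proj (𝒮'.deg U' hU'))
    (hv : (RelProj.emb p' chart' U' hU').base v = (RelProj.domQ u p' chart').ι.base x)
    {d : ℕ} (hd : 0 < d) (f : 𝒮.presheaf.obj (op U)) (hf : f ∈ 𝒮.deg U hU d) :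
    Φ.base x ∈ Set.range (aEmb p chart U hU hd f hf).base ↔
      u.gradedAt U hU U' hU' hle f ∉ v.asHomogeneousIdeal := by
  obtain ⟨j, q, hq⟩ := exists_src_eq u _ x.2
  have hyU' : p'.base x.1 ∈ U' := by
    rw [show x.1 = (RelProj.domQ u p' chart').ι.base x from rfl, ← hv]
    exact π_emb_mem U' hU' v
  have hyj : p'.base x.1 ∈ j.U' := by rw [← hq]; exact π_emb_mem j.U' j.hU' _
  let i₀ : Idx (g := g) (𝒮 := 𝒮) := ⟨U, hU, U', hU', hle, d, hd, f, hf⟩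
  obtain ⟨pr, hy, hjU, hU₃, hjU', hU₃'⟩ := exists_pair hP' j i₀ _ hyj hyU'
  obtain ⟨v₃, hv₃⟩ := exists_point (chart := chart') pr.U' pr.hU' x.1 hy
  have hv₃j : u.gradedAt pr.U pr.hU pr.U' pr.hU' pr.hle (𝒮.res j.hU pr.hU hjU j.f) ∉ v₃.asHomogeneousIdeal :=
    mem_src u hP' j pr.hU pr.hU' pr.hle hjU hjU' ⟨q, hq.trans hv₃.symm⟩
  let f₃ := 𝒮.res j.hU pr.hU hjU j.f
  have hf₃ : f₃ ∈ 𝒮.deg pr.U pr.hU j.d := (𝒮.res j.hU pr.hU hjU).2 j.hf
  let m : Idx (g := g) (𝒮 := 𝒮) := ⟨pr.U, pr.hU, pr.U', pr.hU', pr.hle, j.d, j.hd, f₃, hf₃⟩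
  obtain ⟨q₃, hq₃⟩ := (mem_range_aEmb (p := p') (chart := chart') pr.U' pr.hU' j.hd (m.ψ u f₃)
    ((m.ψ u).2 hf₃) v₃).mpr hv₃j
  have hlift : (m.lift u (p' := p') (chart' := chart')).base q₃ = x := by
    refine (RelProj.domQ u p' chart').ι.isOpenEmbedding.injective ?_
    rw [← Scheme.Hom.comp_apply, lift_fac u m]
    exact hq₃.trans hv₃
  set b : Proj (𝒮.deg pr.U pr.hU) :=
    (Proj.awayι (𝒮.deg pr.U pr.hU) f₃ hf₃ j.hd).base ((Spec.map (CommRingCat.ofHom (Away.map (m.ψ u) f₃))).base q₃)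
  have hΦx : Φ.base x = (RelProj.emb p chart pr.U pr.hU).base b := by
    rw [← hlift, ← Scheme.Hom.comp_apply, lift_comp u hΦ m]
    rfl
  have hvq : (Proj.awayι (𝒮'.deg pr.U' pr.hU') (m.ψ u f₃) ((m.ψ u).2 hf₃) j.hd).base q₃ = v₃ :=
    (RelProj.emb p' chart' pr.U' pr.hU').isOpenEmbedding.injective hq₃
  have hPb : p.base (Φ.base x) ∈ U := by
    rw [← Scheme.Hom.comp_apply, comp_base u hP hP' hΦ]
    exact hle hyU'
  obtain ⟨c, hc⟩ := exists_point (chart := chart) U hU _ hPb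
  rw [← hc, mem_range_aEmb (p := p) (chart := chart) U hU hd f hf c]
  rw [← point_compat hP hU pr.hU hU₃ (hc.trans hΦx) f]
  have hfres : 𝒮.res hU pr.hU hU₃ f ∈ 𝒮.deg pr.U pr.hU d := (𝒮.res hU pr.hU hU₃).2 hf
  refine (not_mem_comap_iff (m.ψ u) j.hd f₃ hf₃ hd (𝒮.res hU pr.hU hU₃ f) hfres q₃).trans ?_
  rw [hvq, ← res_gradedAt u hU hU' pr.hU pr.hU' hle pr.hle hU₃ hU₃' f]
  exact not_congr (point_compat hP' hU' pr.hU' hU₃' (hv.trans hv₃.symm) _)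

end Groth.L18.QMap
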