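import Groth.Agent.L18.QMap.Comp
import Groth.Agent.L18.LPsi.Dominant
import Mathlib.AlgebraicGeometry.Morphisms.Immersion

/-!
# Cancellation along `Proj` of a graded homomorphism on the same base
-/

noncomputable section

namespace Groth.L18.QMap

open HomogeneousIdeal CategoryTheory AlgebraicGeometry CategoryTheory.Limits Opposite TopologicalSpace
open HomogeneousLocalization
open Groth.L18

universe u

theorem isIso_homOfLE_of_eq {Z : Scheme.{u}} {W W' : Z.Opens} (e : W ≤ W') (h : W = W') : IsIso (Z.homOfLE e) := by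
  subst h
  rw [show Z.homOfLE e = 𝟙 _ from Scheme.homOfLE_rfl _ _]
  infer_instance

theorem isPullback_of_mono {T Q R : Scheme.{u}} (ρ : T ⟶ Q) (g : Q ⟶ R) [Mono g] (f : T ⟶ R) (h : ρ ≫ g = f) :
    IsPullback ρ (𝟙 T) g f :=
  IsPullback.of_isLimit' ⟨by simp [h]⟩ (PullbackCone.IsLimit.mk _ (fun s => s.snd)
    (fun s => by rw [← cancel_mono g, Category.assoc, h, s.condition])
    (fun s => Category.comp_id _)
    (fun s m _ hm => by simpa using hm))

variable {Y X : Scheme.{u}} {q : X ⟶ Y} {𝒮 𝒯 : RelProj.QCGrAlg Y} {𝒮L : RelProj.QCGrAlg X}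
  {u : RelProj.QGrHom q 𝒮 𝒮L} {v : 𝒯.toQCAlg ⟶ 𝒮.toQCAlg} (hv : RelProj.IsGradedHom v)
  {u' : RelProj.QGrHom q 𝒯 𝒮L} (hu' : ∀ U : Y.Opens, u'.app U = v.hom.app (op U) ≫ u.app U)
  {P : Scheme.{u}} {p : P ⟶ Y}
  {chart : ∀ (U : Y.Opens) (hU : IsAffineOpen U), (((p ⁻¹ᵁ U : P.Opens) : Scheme.{u}) ≅ Proj (𝒮.deg U hU))}
  {P' : Scheme.{u}} {p' : P' ⟶ Y}
  {chart' : ∀ (U : Y.Opens) (hU : IsAffineOpen U), (((p' ⁻¹ᵁ U : P'.Opens) : Scheme.{u}) ≅ Proj (𝒯.deg U hU))}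
  {PL : Scheme.{u}} {pL : PL ⟶ X}
  {chartL : ∀ (U : X.Opens) (hU : IsAffineOpen U), (((pL ⁻¹ᵁ U : PL.Opens) : Scheme.{u}) ≅ Proj (𝒮L.deg U hU))}
  (hP : RelProj.IsRelProj 𝒮 p chart) (hP' : RelProj.IsRelProj 𝒯 p' chart') (hPL : RelProj.IsRelProj 𝒮L pL chartL)
  {r : ((RelProj.domQ u pL chartL : PL.Opens) : Scheme.{u}) ⟶ P}
  (hr : RelProj.IsProjQMapOn u p chart pL chartL (RelProj.domQ u pL chartL) r)
  {r' : ((RelProj.domQ u' pL chartL : PL.Opens) : Scheme.{u}) ⟶ P'}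
  (hr' : RelProj.IsProjQMapOn u' p' chart' pL chartL (RelProj.domQ u' pL chartL) r')

include hP hP' hPL hr hr' hv hu' in
theorem isImmersion_of_comp (hdef : RelProj.domQ u' pL chartL = ⊤) (himm : IsImmersion r') :
    RelProj.domQ u pL chartL = ⊤ ∧ IsImmersion r := by
  have hle := domQ_le_of_comp (pL := pL) (chartL := chartL) hv hu'
  have htop : RelProj.domQ u pL chartL = ⊤ := top_le_iff.mp (hdef.ge.trans hle)
  refine ⟨htop, ?_⟩
  obtain ⟨Φv, hΦv, -⟩ := existsUnique_on (RelProj.QGrHom.ofHom v hv) hP' hP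
  obtain ⟨ρ, hρ, hρr⟩ := exists_factor_comp hv hu' hP hPL hr hΦv hr'
  haveI : IsImmersion (ρ ≫ Φv) := hρr ▸ himm
  haveI : IsImmersion ρ := IsImmersion.of_comp ρ Φv
  haveI := isIso_homOfLE_of_eq hle (hdef.trans htop.symm)
  have h : IsImmersion (PL.homOfLE hle ≫ r) := by rw [← hρ]; infer_instance
  exact (MorphismProperty.cancel_left_of_respectsIso @IsImmersion _ _).mp h

include hP hP' in
theorem domQ_ofHom_eq_top (hTN : ∃ n : ℕ, ∀ k, n ≤ k → ∀ (U : Y.Opens) (hU : IsAffineOpen U), ∀ y ∈ 𝒮.deg U hU k,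
      ∃ x ∈ 𝒯.deg U hU k, (v.hom.app (op U)).hom x = y) :
    RelProj.domQ (RelProj.QGrHom.ofHom v hv) p chart = ⊤ ∧
      ∀ Φ : ((RelProj.domQ (RelProj.QGrHom.ofHom v hv) p chart : P.Opens) : Scheme.{u}) ⟶ P',
        RelProj.IsProjQMapOn (RelProj.QGrHom.ofHom v hv) p' chart' p chart
          (RelProj.domQ (RelProj.QGrHom.ofHom v hv) p chart) Φ → IsClosedImmersion Φ := by
  obtain ⟨N, hN⟩ := hTN
  have hev : ∀ (U : Y.Opens) (hU : IsAffineOpen U) (hle : U ≤ (𝟙 Y) ⁻¹ᵁ U) (n : ℕ), N ≤ n →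
      ∀ y ∈ 𝒮.deg U hU n, ∃ x ∈ 𝒯.deg U hU n, (RelProj.QGrHom.ofHom v hv).gradedAt U hU U hU hle x = y := by
    intro U hU hle n hn y hy
    obtain ⟨x, hx, hxy⟩ := hN n hn U hU y hy
    exact ⟨x, hx, (gradedAt_ofHom_apply v hv U hU hle x).trans hxy⟩
  refine ⟨domQ_eq_top _ fun y => ?_, fun Φ hΦ => ?_⟩
  · obtain ⟨U, hU, hy, -⟩ := exists_isAffineOpen_mem_and_subset (x := y) (U := ⊤) trivial
    exact ⟨U, hU, U, hU, le_rfl, hy, domOpen_eq_top_of_eventually _ (hev U hU le_rfl)⟩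
  · refine property_on _ hP' hP hΦ @IsClosedImmersion (fun U hU => hU) fun U hU d hd f hf => ?_
    exact IsClosedImmersion.spec_of_surjective _
      (away_map_surjective_of_eventually _ hd f hf (hev U hU le_rfl))

include hP hP' hPL hr hr' hv hu' in
theorem of_comp_of_tnSurjective (hTN : ∃ n : ℕ, ∀ k, n ≤ k → ∀ (U : Y.Opens) (hU : IsAffineOpen U), ∀ y ∈ 𝒮.deg U hU k,
      ∃ x ∈ 𝒯.deg U hU k, (v.hom.app (op U)).hom x = y) :
    (IsDominant r' → IsDominant r) ∧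
      (RelProj.domQ u' pL chartL = ⊤ →
        (IsOpenImmersion r' → IsOpenImmersion r) ∧ (IsClosedImmersion r' → IsClosedImmersion r)) := by
  obtain ⟨htopv, hclv⟩ := domQ_ofHom_eq_top (p' := p') (chart' := chart') hv hP hP' hTN
  obtain ⟨Φv, hΦv, -⟩ := existsUnique_on (RelProj.QGrHom.ofHom v hv) hP' hP
  haveI := hclv Φv hΦv
  obtain ⟨ρ, hρ, hρr⟩ := exists_factor_comp hv hu' hP hPL hr hΦv hr'
  have hle := domQ_le_of_comp (pL := pL) (chartL := chartL) hv hu'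
  haveI := isIso_ι_of_eq_top _ htopv
  constructor
  · intro hdom
    have hsurj : Function.Surjective Φv.base := by
      rw [← Set.range_eq_univ, Set.eq_univ_iff_forall]
      intro y
      have h2 := closure_minimal (show Set.range r'.base ⊆ Set.range Φv.base by
        rw [← hρr]; rintro _ ⟨x, rfl⟩; exact ⟨_, rfl⟩) Φv.isClosedEmbedding.isClosed_range
      exact h2 (hdom.denseRange y)
    have hhom : IsOpenMap Φv.base :=
      (Equiv.ofBijective Φv.base ⟨Φv.isClosedEmbedding.injective, hsurj⟩).toHomeomorphOfIsInducing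
        Φv.isClosedEmbedding.isInducing |>.isOpenMap
    haveI : IsDominant ρ := ⟨by
      have : Set.range ρ.base = Φv.base ⁻¹' Set.range r'.base := by
        ext z
        constructor
        · rintro ⟨x, rfl⟩; exact ⟨x, by rw [← hρr]; rfl⟩
        · rintro ⟨x, hx⟩
          exact ⟨x, Φv.isClosedEmbedding.injective (by rw [← hρr] at hx; exact hx)⟩
      show Dense (Set.range ρ.base)
      rw [this]
      exact hdom.denseRange.preimage hhom⟩
    haveI : Surjective (RelProj.domQ (RelProj.QGrHom.ofHom v hv) p chart).ι := inferInstance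
    haveI : IsDominant (PL.homOfLE hle ≫ r) := by rw [← hρ]; infer_instance
    exact IsDominant.of_comp (f := PL.homOfLE hle) (g := r)
  · intro hdef
    haveI := isIso_homOfLE_of_eq hle (hdef.trans (top_le_iff.mp (hdef.ge.trans hle)).symm)
    have hpb := isPullback_of_mono ρ Φv r' hρr
    have key : ∀ (Q : MorphismProperty Scheme.{u}) [Q.RespectsIso] [Q.IsStableUnderBaseChange],
        Q r' → Q r := by
      intro Q _ _ hQ
      have h1 : Q ρ := Q.of_isPullback hpb.flip hQ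
      have h2 : Q (PL.homOfLE hle ≫ r) := by
        rw [← hρ]; exact (Q.cancel_right_of_respectsIso _ _).mpr h1
      exact (Q.cancel_left_of_respectsIso _ _).mp h2
    exact ⟨key @IsOpenImmersion, key @IsClosedImmersion⟩

include hP hP' hPL hr hr' hv hu' in
theorem comp_isDominant_of_tnInjective (hTN : ∃ n : ℕ, ∀ k, n ≤ k → ∀ (U : Y.Opens) (hU : IsAffineOpen U), ∀ x ∈ 𝒯.deg U hU k,
      (v.hom.app (op U)).hom x = 0 → x = 0) (hdom : IsDominant r) : IsDominant r' := by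
  obtain ⟨N, hN⟩ := hTN
  obtain ⟨Φv, hΦv, -⟩ := existsUnique_on (RelProj.QGrHom.ofHom v hv) hP' hP
  obtain ⟨ρ, hρ, hρr⟩ := exists_factor_comp hv hu' hP hPL hr hΦv hr'
  have hΦdom : ∀ O : Set P', IsOpen O → O.Nonempty → (Φv.base ⁻¹' O).Nonempty := by
    rintro O hO ⟨y, hy⟩
    obtain ⟨⟨U, hU⟩, hyU⟩ := Opens.mem_iSup.mp ((iSup_affineOpens_eq_top Y).ge (trivial : p'.base y ∈ (⊤ : Y.Opens)))
    obtain ⟨c, rfl⟩ := exists_point (chart := chart') U hU y hyU
    obtain ⟨d, hd, t, ht, hct, hsub⟩ :=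
      LPsi.exists_basicOpen_le (hO.preimage (RelProj.emb p' chart' U hU).continuous) hy
    obtain ⟨w, hw⟩ : ∃ w : Proj (𝒮.deg U hU), (v.hom.app (op U)).hom t ∉ w.asHomogeneousIdeal := by
      by_contra hcon
      push Not at hcon
      obtain ⟨m, hm⟩ := (LPsi.basicOpen_eq_empty_iff hd (hv U hU d t ht)).mp hcon
      have hvz : (v.hom.app (op U)).hom (t ^ (m + N + 1)) = 0 := by
        rw [map_pow, pow_add, pow_add, hm, zero_mul, zero_mul]
      have hz := hN _ (show N ≤ (m + N + 1) • d by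
        rw [smul_eq_mul]; exact le_trans (by omega) (Nat.le_mul_of_pos_right _ hd)) U hU _
        (SetLike.pow_mem_graded _ ht) hvz
      exact hct (c.isPrime.mem_of_pow_mem (m + N + 1) (by rw [hz]; exact zero_mem _))
    have hmem : (RelProj.emb p chart U hU).base w ∈ RelProj.domQ (RelProj.QGrHom.ofHom v hv) p chart :=
      (mem_domQ_iff _ hP hU hU le_rfl w).mpr ((RelCone.mem_domOpen _ _).mpr
        ⟨t, HomogeneousIdeal.mem_irrelevant_of_mem _ hd ht, by rw [gradedAt_ofHom_apply]; exact hw⟩)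
    refine ⟨⟨_, hmem⟩, ?_⟩
    obtain ⟨s, hs⟩ := (mem_preimage_iff (RelProj.QGrHom.ofHom v hv) hP' hP hΦv ⟨_, hmem⟩ hU hU le_rfl w rfl hd t ht).mpr
      (by rw [gradedAt_ofHom_apply]; exact hw)
    show Φv.base _ ∈ O
    rw [← hs]
    exact hsub ((Proj.opensRange_awayι (𝒯.deg U hU) t ht hd).le ⟨s, rfl⟩)
  refine ⟨dense_iff_inter_open.mpr fun O hO hne => ?_⟩
  obtain ⟨z, hz⟩ := hΦdom O hO hne
  obtain ⟨x, hx⟩ := hdom.denseRange.exists_mem_open
    ((RelProj.domQ (RelProj.QGrHom.ofHom v hv) p chart).ι.isOpenEmbedding.isOpenMap _ (hO.preimage Φv.continuous))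
    ⟨_, z, hz, rfl⟩
  obtain ⟨z', hz', he⟩ := hx
  have hxmem : x.1 ∈ RelProj.domQ u' pL chartL := (mem_domQ_comp_iff hv hu' hP hPL hr x).mpr (by rw [← he]; exact z'.2)
  refine ⟨r'.base ⟨x.1, hxmem⟩, ?_, ⟨_, rfl⟩⟩
  have e2 : ρ.base ⟨x.1, hxmem⟩ = z' := by
    refine (RelProj.domQ (RelProj.QGrHom.ofHom v hv) p chart).ι.isOpenEmbedding.injective ?_
    rw [← Scheme.Hom.comp_apply ρ, hρ, he, Scheme.Hom.comp_apply]
    refine congrArg r.base ((RelProj.domQ u pL chartL).ι.isOpenEmbedding.injective ?_)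
    rw [← Scheme.Hom.comp_apply, Scheme.homOfLE_ι]
    rfl
  rw [← hρr, Scheme.Hom.comp_apply, e2]
  exact hz'

end Groth.L18.QMap
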