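import Groth.Agent.L18.RelProj.BasicOpen
import Groth.Agent.L18.ProjCone
import Groth.Prelude.Def_RelProj4

/-!
# Standard charts of a relative `Proj` and their restrictions
-/

noncomputable section

namespace Groth.L18.QMap

open HomogeneousIdeal CategoryTheory AlgebraicGeometry CategoryTheory.Limits Opposite TopologicalSpace
open HomogeneousLocalization
open Groth.L18

universe u

section Ring

variable {A B σ τ : Type u} [CommRing A] [CommRing B] [SetLike σ A] [AddSubgroupClass σ A]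
  [SetLike τ B] [AddSubgroupClass τ B] {𝒜 : ℕ → σ} [GradedRing 𝒜] {ℬ : ℕ → τ} [GradedRing ℬ]
  (φ : 𝒜 →+*ᵍ ℬ)

/-- A homogeneous element avoids the image point iff its image avoids the point. -/
theorem not_mem_comap_iff {d : ℕ} (hd : 0 < d) (s : A) (hs : s ∈ 𝒜 d) {n : ℕ} (hn : 0 < n) (x : A) (hx : x ∈ 𝒜 n)
    (q : (Spec (CommRingCat.of (Away ℬ (φ s))) :)) :
    x ∉ ((Proj.awayι 𝒜 s hs hd).base ((Spec.map (CommRingCat.ofHom (Away.map φ s))).base q)).asHomogeneousIdeal ↔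
      φ x ∉ ((Proj.awayι ℬ (φ s) (φ.2 hs) hd).base q).asHomogeneousIdeal := by
  have h1 := SetLike.ext_iff.mp (Proj.awayι_preimage_basicOpen 𝒜 hs hd hx hn)
    ((Spec.map (CommRingCat.ofHom (Away.map φ s))).base q)
  have h2 := SetLike.ext_iff.mp (Proj.awayι_preimage_basicOpen ℬ (φ.2 hs) hd (φ.2 hx) hn) q
  refine h1.trans (Iff.trans ?_ h2.symm)
  show ¬ Away.map φ s (Away.isLocalizationElem hs hx) ∈ q.asIdeal ↔
    ¬ Away.isLocalizationElem (φ.2 hs) (φ.2 hx) ∈ q.asIdeal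
  rw [Away.isLocalizationElem, Away.map_mk]
  simp only [Away.isLocalizationElem, map_pow]
  rfl

theorem map_awayMap {d e : ℕ} (f g x : A) (hf : f ∈ 𝒜 d) (hg : g ∈ 𝒜 e) (hx : x = f * g)
    (hx' : φ x = φ f * φ g) :
    (awayMap ℬ (φ.2 hg) hx').comp (Away.map φ f) = (Away.map φ x).comp (awayMap 𝒜 hg hx) := by
  refine RingHom.ext fun q => ?_
  obtain ⟨n, a, ha, rfl⟩ := Away.mk_surjective 𝒜 hf q
  refine val_injective _ ?_
  simp [map_mul, map_pow]

end Ring

variable {S P : Scheme.{u}} {𝒮 : RelProj.QCGrAlg S} (p : P ⟶ S)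
  (chart : ∀ (U : S.Opens) (hU : IsAffineOpen U), (((p ⁻¹ᵁ U : P.Opens) : Scheme.{u}) ≅ Proj (𝒮.deg U hU)))

/-- The standard chart `D₊(f)` over `U` of a relative `Proj`. -/
def aEmb (U : S.Opens) (hU : IsAffineOpen U) {d : ℕ} (hd : 0 < d) (f : 𝒮.presheaf.obj (op U))
    (hf : f ∈ 𝒮.deg U hU d) : Spec (CommRingCat.of (Away (𝒮.deg U hU) f)) ⟶ P :=
  Proj.awayι (𝒮.deg U hU) f hf hd ≫ RelProj.emb p chart U hU

instance (U : S.Opens) (hU : IsAffineOpen U) {d : ℕ} (hd : 0 < d) (f : 𝒮.presheaf.obj (op U))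
    (hf : f ∈ 𝒮.deg U hU d) : IsOpenImmersion (aEmb p chart U hU hd f hf) := by
  unfold aEmb
  infer_instance

variable {p chart} (hP : RelProj.IsRelProj 𝒮 p chart)

theorem π_emb_mem (U : S.Opens) (hU : IsAffineOpen U) (v : Proj (𝒮.deg U hU)) :
    p.base ((RelProj.emb p chart U hU).base v) ∈ U := ((chart U hU).inv.base v).2

theorem mem_range_aEmb (U : S.Opens) (hU : IsAffineOpen U) {d : ℕ} (hd : 0 < d) (f : 𝒮.presheaf.obj (op U))
    (hf : f ∈ 𝒮.deg U hU d) (v : Proj (𝒮.deg U hU)) :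
    (RelProj.emb p chart U hU).base v ∈ Set.range (aEmb p chart U hU hd f hf).base ↔ f ∉ v.asHomogeneousIdeal := by
  constructor
  · rintro ⟨q, hq⟩
    obtain rfl := (RelProj.emb p chart U hU).isOpenEmbedding.injective hq
    exact (Proj.opensRange_awayι _ _ hf hd).le ⟨q, rfl⟩
  · intro hv
    obtain ⟨q, rfl⟩ := (Proj.opensRange_awayι (𝒮.deg U hU) f hf hd).ge hv
    exact ⟨q, rfl⟩

theorem exists_point (U : S.Opens) (hU : IsAffineOpen U) (x : P) (hx : p.base x ∈ U) :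
    ∃ v, (RelProj.emb p chart U hU).base v = x :=
  ⟨_, RP.emb_chart_apply U hU ⟨x, hx⟩⟩

include hP

/-- Ideals of the points under restriction to a smaller affine open. -/
theorem point_compat {U V : S.Opens} (hU : IsAffineOpen U) (hV : IsAffineOpen V) (i : V ≤ U)
    {v : Proj (𝒮.deg U hU)} {v' : Proj (𝒮.deg V hV)}
    (h : (RelProj.emb p chart U hU).base v = (RelProj.emb p chart V hV).base v') (a : 𝒮.presheaf.obj (op U)) :
    (𝒮.presheaf.map (homOfLE i).op).hom a ∈ v'.asHomogeneousIdeal ↔ a ∈ v.asHomogeneousIdeal := by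
  obtain ⟨W, hW, iU, iV, hiU, hiV, w, rfl, rfl⟩ := RP.exists_common hP hU hV h
  show (𝒮.res hV hW iV ((𝒮.presheaf.map (homOfLE i).op).hom a)) ∈ w.asHomogeneousIdeal ↔
    𝒮.res hU hW iU a ∈ w.asHomogeneousIdeal
  rw [show 𝒮.res hV hW iV ((𝒮.presheaf.map (homOfLE i).op).hom a) = 𝒮.res hU hW iU a from
    congrArg (fun g : 𝒮.deg U hU →+*ᵍ 𝒮.deg W hW => g a) (RP.res_comp 𝒮 hU hV hW i iV)]

theorem aEmb_res_basic {U : S.Opens} (hU : IsAffineOpen U) (r : Γ(S, U)) {d : ℕ} (hd : 0 < d)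
    (f : 𝒮.presheaf.obj (op U)) (hf : f ∈ 𝒮.deg U hU d) (f' : 𝒮.presheaf.obj (op (S.basicOpen r)))
    (hf' : f' ∈ 𝒮.deg (S.basicOpen r) (hU.basicOpen r) d)
    (e : 𝒮.res hU (hU.basicOpen r) (S.basicOpen_le r) f = f') :
    Spec.map (CommRingCat.ofHom (PConeImm.awayMapTo (𝒮.res hU (hU.basicOpen r) (S.basicOpen_le r)) f f' e)) ≫
      aEmb p chart U hU hd f hf = aEmb p chart (S.basicOpen r) (hU.basicOpen r) hd f' hf' := by
  rw [aEmb, aEmb, ← Category.assoc, PConeImm.awayι_map _ (𝒮.irrelevant_le_map U hU r) hd f hf f' hf' e,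
    Category.assoc, RelProj.map_res_emb hP U hU r]

/-- The standard charts are compatible with restriction to any smaller affine open. -/
theorem aEmb_res {U V : S.Opens} (hU : IsAffineOpen U) (hV : IsAffineOpen V) (i : V ≤ U) {d : ℕ} (hd : 0 < d)
    (f : 𝒮.presheaf.obj (op U)) (hf : f ∈ 𝒮.deg U hU d) (f' : 𝒮.presheaf.obj (op V)) (hf' : f' ∈ 𝒮.deg V hV d)
    (e : 𝒮.res hU hV i f = f') :
    Spec.map (CommRingCat.ofHom (PConeImm.awayMapTo (𝒮.res hU hV i) f f' e)) ≫ aEmb p chart U hU hd f hf =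
      aEmb p chart V hV hd f' hf' := by
  refine RSGlue.hom_ext_of_range _ _ fun q => ?_
  have hxV : p.base ((aEmb p chart V hV hd f' hf').base q) ∈ V := π_emb_mem V hV _
  obtain ⟨r, s, eW, hx⟩ := exists_basicOpen_le_affine_inter hV hU _ ⟨hxV, i hxV⟩
  obtain ⟨w, hw⟩ := exists_point (chart := chart) (S.basicOpen r) (hV.basicOpen r) _ hx
  set f'' := 𝒮.res hV (hV.basicOpen r) (S.basicOpen_le r) f'
  have hf'' : f'' ∈ 𝒮.deg (S.basicOpen r) (hV.basicOpen r) d := (𝒮.res hV (hV.basicOpen r) (S.basicOpen_le r)).2 hf'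
  have e1 := aEmb_res_basic hP hV r hd f' hf' f'' hf'' rfl
  let l := Spec.map (CommRingCat.ofHom
    (PConeImm.awayMapTo (𝒮.res hV (hV.basicOpen r) (S.basicOpen_le r)) f' f'' rfl))
  have hwf : f'' ∉ w.asHomogeneousIdeal := by
    intro h
    have hh : (RelProj.emb p chart V hV).base ((Proj.awayι (𝒮.deg V hV) f' hf' hd).base q) =
        (RelProj.emb p chart (S.basicOpen r) (hV.basicOpen r)).base w := hw.symm
    exact (Proj.opensRange_awayι (𝒮.deg V hV) f' hf' hd).le ⟨q, rfl⟩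
      ((point_compat hP hV (hV.basicOpen r) (S.basicOpen_le r) hh f').mp h)
  obtain ⟨q', hq'⟩ := (mem_range_aEmb (p := p) (chart := chart) (S.basicOpen r) (hV.basicOpen r) hd f'' hf'' w).mpr hwf
  refine ⟨_, l, ?_, ⟨q', (aEmb p chart V hV hd f' hf').isOpenEmbedding.injective ?_⟩, ?_⟩
  · haveI : IsOpenImmersion (l ≫ aEmb p chart V hV hd f' hf') := by rw [e1]; infer_instance
    exact IsOpenImmersion.of_comp l (aEmb p chart V hV hd f' hf')
  · rw [← Scheme.Hom.comp_apply, e1, hq', hw]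
  · rw [e1]
    have key : ∀ {W : S.Opens} (hW : IsAffineOpen W) (_ : S.basicOpen s = W) (j : W ≤ U)
        (g : 𝒮.presheaf.obj (op W)) (hg : g ∈ 𝒮.deg W hW d) (eg : 𝒮.res hU hW j f = g),
        Spec.map (CommRingCat.ofHom (PConeImm.awayMapTo (𝒮.res hU hW j) f g eg)) ≫ aEmb p chart U hU hd f hf =
          aEmb p chart W hW hd g hg := by
      intro W hW hs j g hg eg
      subst hs
      exact aEmb_res_basic hP hU s hd f hf g hg eg
    have eg : 𝒮.res hU (hV.basicOpen r) ((S.basicOpen_le r).trans i) f = f'' := by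
      rw [← RP.res_comp 𝒮 hU hV (hV.basicOpen r) i (S.basicOpen_le r)]
      exact congrArg (𝒮.res hV (hV.basicOpen r) (S.basicOpen_le r)) e
    rw [← key (hV.basicOpen r) eW.symm ((S.basicOpen_le r).trans i) f'' hf'' eg, ← Category.assoc, ← Spec.map_comp,
      ← CommRingCat.ofHom_comp]
    congr 2
    refine CommRingCat.hom_ext (RingHom.ext fun z => ?_)
    obtain ⟨n, a, ha, rfl⟩ := Away.mk_surjective (𝒮.deg U hU) hf z
    simp only [CommRingCat.hom_ofHom, RingHom.comp_apply, PConeImm.awayMapTo_val]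
    refine val_injective _ ?_
    simp only [Away.val_mk]
    rw [← RP.res_comp 𝒮 hU hV (hV.basicOpen r) i (S.basicOpen_le r)]
    rfl

end Groth.L18.QMap
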