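import Groth.Agent.L18.QMap.Cone

/-!
# Composition of `Proj(u)` with `Proj` of a graded homomorphism on the same base
-/

noncomputable section

namespace Groth.L18.QMap

open HomogeneousIdeal CategoryTheory AlgebraicGeometry CategoryTheory.Limits Opposite TopologicalSpace
open HomogeneousLocalization
open Groth.L18

universe u

variable {Y X : Scheme.{u}} {q : X ⟶ Y} {𝒮 𝒯 : RelProj.QCGrAlg Y} {𝒮L : RelProj.QCGrAlg X}
  {u : RelProj.QGrHom q 𝒮 𝒮L} {v : 𝒯.toQCAlg ⟶ 𝒮.toQCAlg} (hv : RelProj.IsGradedHom v)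
  {u' : RelProj.QGrHom q 𝒯 𝒮L} (hu' : ∀ U : Y.Opens, u'.app U = v.hom.app (op U) ≫ u.app U)
  {P : Scheme.{u}} {p : P ⟶ Y}
  {chart : ∀ (U : Y.Opens) (hU : IsAffineOpen U), (((p ⁻¹ᵁ U : P.Opens) : Scheme.{u}) ≅ Proj (𝒮.deg U hU))}
  {P' : Scheme.{u}} {p' : P' ⟶ Y}
  {chart' : ∀ (U : Y.Opens) (hU : IsAffineOpen U), (((p' ⁻¹ᵁ U : P'.Opens) : Scheme.{u}) ≅ Proj (𝒯.deg U hU))}
  {PL : Scheme.{u}} {pL : PL ⟶ X}
  {chartL : ∀ (U : X.Opens) (hU : IsAffineOpen U), (((pL ⁻¹ᵁ U : PL.Opens) : Scheme.{u}) ≅ Proj (𝒮L.deg U hU))}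
  (hP : RelProj.IsRelProj 𝒮 p chart) (hPL : RelProj.IsRelProj 𝒮L pL chartL)

include hu' in
theorem gradedAt_comp {U : Y.Opens} (hU : IsAffineOpen U) {U' : X.Opens} (hU' : IsAffineOpen U') (hle : U' ≤ q ⁻¹ᵁ U)
    (t : 𝒯.presheaf.obj (op U)) :
    u'.gradedAt U hU U' hU' hle t = u.gradedAt U hU U' hU' hle ((v.hom.app (op U)).hom t) := by
  show (𝒮L.presheaf.map (homOfLE hle).op).hom ((u'.app U).hom t) = _
  rw [hu' U]
  rfl

include hv hu' in
theorem domQ_le_of_comp : RelProj.domQ u' pL chartL ≤ RelProj.domQ u pL chartL := by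
  intro x hx
  obtain ⟨⟨⟨⟨U, hU⟩, ⟨U', hU'⟩⟩, hle⟩, w, hw, rfl⟩ := Opens.mem_iSup.mp hx
  obtain ⟨f, hf, hfw⟩ := (RelCone.mem_domOpen _ _).mp hw
  refine Opens.mem_iSup.mpr ⟨⟨(⟨U, hU⟩, ⟨U', hU'⟩), hle⟩, w, (RelCone.mem_domOpen _ _).mpr
    ⟨RelProj.gradedHomAt v hv U hU f, Groth.L18.Cone.map_mem_irrelevant (RelProj.gradedHomAt v hv U hU) hf, ?_⟩, rfl⟩
  rw [← show u'.gradedAt U hU U' hU' hle f = u.gradedAt U hU U' hU' hle (RelProj.gradedHomAt v hv U hU f) from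
    gradedAt_comp hu' hU hU' hle f]
  exact hfw

variable {r : ((RelProj.domQ u pL chartL : PL.Opens) : Scheme.{u}) ⟶ P}
  (hr : RelProj.IsProjQMapOn u p chart pL chartL (RelProj.domQ u pL chartL) r)

include hv hu' hP hPL hr in
/-- The domain of the composite. -/
theorem mem_domQ_comp_iff (x : ((RelProj.domQ u pL chartL : PL.Opens) : Scheme.{u})) :
    x.1 ∈ RelProj.domQ u' pL chartL ↔ r.base x ∈ RelProj.domQ (RelProj.QGrHom.ofHom v hv) p chart := by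
  constructor
  · intro hx
    obtain ⟨⟨⟨⟨U, hU⟩, ⟨U', hU'⟩⟩, hle⟩, w, hw, hwx⟩ := Opens.mem_iSup.mp hx
    obtain ⟨f, hf, hfw⟩ := (RelCone.mem_domOpen _ _).mp hw
    obtain ⟨d, hd, t, ht, htw⟩ := (PConeImm.exists_homogeneous_not_mem
      (p := w.asHomogeneousIdeal.toIdeal.comap (u'.gradedAt U hU U' hU' hle))).mp ⟨f, hf, hfw⟩
    obtain ⟨s, hs⟩ := (mem_preimage_iff u hP hPL hr x hU hU' hle w hwx hd ((v.hom.app (op U)).hom t)
      (hv U hU d t ht)).mpr (fun h => htw (show u'.gradedAt U hU U' hU' hle t ∈ _ by rw [gradedAt_comp hu' hU hU' hle]; exact h))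
    rw [← hs]
    exact Opens.mem_iSup.mpr ⟨⟨(⟨U, hU⟩, ⟨U, hU⟩), le_rfl⟩, (Proj.awayι (𝒮.deg U hU) _ (hv U hU d t ht) hd).base s,
      (RelCone.mem_domOpen _ _).mpr ⟨t, HomogeneousIdeal.mem_irrelevant_of_mem _ hd ht, by
        rw [gradedAt_ofHom_apply]
        exact (Proj.opensRange_awayι (𝒮.deg U hU) _ (hv U hU d t ht) hd).le ⟨s, rfl⟩⟩, rfl⟩
  · intro hx
    obtain ⟨⟨U, hU⟩, hxU⟩ := Opens.mem_iSup.mp ((iSup_affineOpens_eq_top Y).ge (trivial : p.base (r.base x) ∈ (⊤ : Y.Opens)))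
    have hqx : q.base (pL.base x.1) ∈ U := by
      have e := congrArg (fun m : ((RelProj.domQ u pL chartL : PL.Opens) : Scheme.{u}) ⟶ Y => m.base x) (comp_base u hP hPL hr)
      exact (show p.base (r.base x) = q.base (pL.base x.1) from e) ▸ hxU
    obtain ⟨c, hc⟩ := exists_point (chart := chart) U hU _ hxU
    rw [← hc] at hx
    obtain ⟨f, hf, hfc⟩ := (RelCone.mem_domOpen _ _).mp ((mem_domQ_iff _ hP hU hU le_rfl c).mp hx)
    obtain ⟨d, hd, t, ht, htc⟩ := (PConeImm.exists_homogeneous_not_mem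
      (p := c.asHomogeneousIdeal.toIdeal.comap ((RelProj.QGrHom.ofHom v hv).gradedAt U hU U hU le_rfl))).mp ⟨f, hf, hfc⟩
    obtain ⟨U', hU', hxU', hle⟩ := exists_isAffineOpen_mem_and_subset (x := pL.base x.1) (U := q ⁻¹ᵁ U) hqx
    obtain ⟨w, hw⟩ := exists_point (chart := chartL) U' hU' x.1 hxU'
    have hmem : r.base x ∈ Set.range (aEmb p chart U hU hd ((v.hom.app (op U)).hom t) (hv U hU d t ht)).base := by
      rw [← hc, mem_range_aEmb]
      intro h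
      exact htc (by show _ ∈ c.asHomogeneousIdeal.toIdeal; rw [gradedAt_ofHom_apply]; exact h)
    have hnot := (mem_preimage_iff u hP hPL hr x hU hU' (fun y hy => hle hy) w hw hd _ (hv U hU d t ht)).mp hmem
    refine Opens.mem_iSup.mpr ⟨⟨(⟨U, hU⟩, ⟨U', hU'⟩), fun y hy => hle hy⟩, w, (RelCone.mem_domOpen _ _).mpr
      ⟨t, HomogeneousIdeal.mem_irrelevant_of_mem _ hd ht, ?_⟩, hw⟩
    rw [gradedAt_comp hu' hU hU']
    exact hnot

variable {Φv : ((RelProj.domQ (RelProj.QGrHom.ofHom v hv) p chart : P.Opens) : Scheme.{u}) ⟶ P'}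
  (hΦv : RelProj.IsProjQMapOn (RelProj.QGrHom.ofHom v hv) p' chart' p chart
    (RelProj.domQ (RelProj.QGrHom.ofHom v hv) p chart) Φv)
  {r' : ((RelProj.domQ u' pL chartL : PL.Opens) : Scheme.{u}) ⟶ P'}
  (hr' : RelProj.IsProjQMapOn u' p' chart' pL chartL (RelProj.domQ u' pL chartL) r')

include hu' hP hPL hr hΦv hr' in
/-- The composite map factors through `Proj(v)`. -/
theorem exists_factor_comp :
    ∃ ρ : ((RelProj.domQ u' pL chartL : PL.Opens) : Scheme.{u}) ⟶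
        ((RelProj.domQ (RelProj.QGrHom.ofHom v hv) p chart : P.Opens) : Scheme.{u}),
      ρ ≫ (RelProj.domQ (RelProj.QGrHom.ofHom v hv) p chart).ι = PL.homOfLE (domQ_le_of_comp hv hu') ≫ r ∧
      ρ ≫ Φv = r' := by
  let ι₀ := PL.homOfLE (domQ_le_of_comp (pL := pL) (chartL := chartL) hv hu')
  have hrange : Set.range (ι₀ ≫ r).base ⊆ Set.range (RelProj.domQ (RelProj.QGrHom.ofHom v hv) p chart).ι.base := by
    rw [Scheme.Opens.range_ι]
    rintro _ ⟨y, rfl⟩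
    refine (mem_domQ_comp_iff hv hu' hP hPL hr (ι₀.base y)).mp ?_
    have e : (RelProj.domQ u pL chartL).ι.base (ι₀.base y) = (RelProj.domQ u' pL chartL).ι.base y := by
      rw [← Scheme.Hom.comp_apply, Scheme.homOfLE_ι]
    show (RelProj.domQ u pL chartL).ι.base (ι₀.base y) ∈ _
    rw [e]
    exact y.2
  let ρ := IsOpenImmersion.lift (RelProj.domQ (RelProj.QGrHom.ofHom v hv) p chart).ι (ι₀ ≫ r) hrange
  have hρ : ρ ≫ (RelProj.domQ (RelProj.QGrHom.ofHom v hv) p chart).ι = ι₀ ≫ r := IsOpenImmersion.lift_fac _ _ _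
  refine ⟨ρ, hρ, (cover u' (p' := pL) (chart' := chartL)).hom_ext _ _ fun j => ?_⟩
  show j.lift u' ≫ ρ ≫ Φv = j.lift u' ≫ r'
  obtain ⟨U, hU, U', hU', hle, d, hd, t, ht⟩ := j
  let j : Idx (g := q) (𝒮 := 𝒯) := ⟨U, hU, U', hU', hle, d, hd, t, ht⟩
  have hvt := hv U hU d t ht
  have hw : u.gradedAt U hU U' hU' hle ((v.hom.app (op U)).hom t) = j.ψ u' t := (gradedAt_comp hu' hU hU' hle t).symm
  obtain hl := lift_comp' u hU hU' hle hd hvt hw ((j.ψ u').2 ht) hr (j.lift u' ≫ ι₀)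
    (by rw [Category.assoc, Scheme.homOfLE_ι]; exact lift_fac u' j)
  have hgv := gradedAt_ofHom_apply v hv U hU le_rfl t
  let m := IsOpenImmersion.lift (RelProj.domQ (RelProj.QGrHom.ofHom v hv) p chart).ι
    (aEmb p chart U hU hd ((v.hom.app (op U)).hom t) hvt)
    (range_subset_domQ (RelProj.QGrHom.ofHom v hv) hU hU le_rfl hd ht hgv hvt)
  have hm := lift_comp' (RelProj.QGrHom.ofHom v hv) hU hU le_rfl hd ht hgv hvt hΦv m (IsOpenImmersion.lift_fac _ _ _)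
  have e : j.lift u' ≫ ρ =
      Spec.map (CommRingCat.ofHom (PConeImm.awayMapTo (u.gradedAt U hU U' hU' hle) _ _ hw)) ≫ m := by
    rw [← cancel_mono (RelProj.domQ (RelProj.QGrHom.ofHom v hv) p chart).ι, Category.assoc, hρ, Category.assoc,
      IsOpenImmersion.lift_fac]
    exact (Category.assoc _ _ _).symm.trans hl
  rw [reassoc_of% e, hm, lift_comp u' hr' j, ← Category.assoc, ← Spec.map_comp]
  refine congrArg (fun e => Spec.map e ≫ aEmb p' chart' U hU hd t ht) (CommRingCat.hom_ext (RingHom.ext fun a => ?_))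
  simp only [CommRingCat.hom_comp, RingHom.comp_apply, CommRingCat.hom_ofHom]
  obtain ⟨k, y, hy, rfl⟩ := Away.mk_surjective (𝒯.deg U hU) ht a
  simp only [PConeImm.awayMapTo_val]
  refine Eq.trans ?_ (Away.map_mk (j.ψ u') t ht k y hy).symm
  refine val_injective _ ?_
  simp only [Away.val_mk]
  refine congrArg (fun c => Localization.mk c _) ?_
  rw [gradedAt_ofHom_apply]
  exact (gradedAt_comp hu' hU hU' hle y).symm

end Groth.L18.QMap
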