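import Groth.Agent.L18.QMap.Props
import Groth.Agent.L18.ProjConeInfinity

/-!
# Functoriality of the projective cone
-/

noncomputable section

namespace Groth.L18.QMap

open HomogeneousIdeal CategoryTheory AlgebraicGeometry CategoryTheory.Limits Opposite TopologicalSpace
open HomogeneousLocalization
open Groth.L18

universe u

section Transport

variable {S S' : Scheme.{u}} {g : S' ⟶ S} {𝒮 : RelProj.QCGrAlg S} {𝒮' : RelProj.QCGrAlg S'}
  (u : RelProj.QGrHom g 𝒮 𝒮')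
  {P : Scheme.{u}} {p : P ⟶ S}
  {chart : ∀ (U : S.Opens) (hU : IsAffineOpen U), (((p ⁻¹ᵁ U : P.Opens) : Scheme.{u}) ≅ Proj (𝒮.deg U hU))}
  {P' : Scheme.{u}} {p' : P' ⟶ S'}
  {chart' : ∀ (U' : S'.Opens) (hU' : IsAffineOpen U'), (((p' ⁻¹ᵁ U' : P'.Opens) : Scheme.{u}) ≅ Proj (𝒮'.deg U' hU'))}
  {U : S.Opens} (hU : IsAffineOpen U) {U' : S'.Opens} (hU' : IsAffineOpen U') (hle : U' ≤ g ⁻¹ᵁ U)
  {d : ℕ} (hd : 0 < d) {f : 𝒮.presheaf.obj (op U)} (hf : f ∈ 𝒮.deg U hU d)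
  {w : 𝒮'.presheaf.obj (op U')} (hw : u.gradedAt U hU U' hU' hle f = w) (hwd : w ∈ 𝒮'.deg U' hU' d)

include hd hf hw hwd in
theorem range_subset_domQ :
    Set.range (aEmb p' chart' U' hU' hd w hwd).base ⊆ Set.range (RelProj.domQ u p' chart').ι.base := by
  subst hw
  exact RelProj.range_awayEmb_subset_domQ u p' chart' U hU U' hU' hle hd f hf

include hd hf hwd in
theorem lift_comp' {Φ : ((RelProj.domQ u p' chart' : P'.Opens) : Scheme.{u}) ⟶ P}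
    (hΦ : RelProj.IsProjQMapOn u p chart p' chart' (RelProj.domQ u p' chart') Φ)
    (l : Spec (CommRingCat.of (Away (𝒮'.deg U' hU') w)) ⟶ ((RelProj.domQ u p' chart' : P'.Opens) : Scheme.{u}))
    (hl : l ≫ (RelProj.domQ u p' chart').ι = aEmb p' chart' U' hU' hd w hwd) :
    l ≫ Φ = Spec.map (CommRingCat.ofHom (PConeImm.awayMapTo (u.gradedAt U hU U' hU' hle) f w hw)) ≫
      aEmb p chart U hU hd f hf := by
  subst hw
  let j : Idx (g := g) (𝒮 := 𝒮) := ⟨U, hU, U', hU', hle, d, hd, f, hf⟩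
  have e : l = j.lift u := by
    rw [← cancel_mono (RelProj.domQ u p' chart').ι, lift_fac u j]
    exact hl
  rw [e]
  exact lift_comp u hΦ j

include hd hf hwd in
theorem qmap_comp' {h : P' ⟶ P} (hh : RelProj.IsProjQMap u p chart p' chart' h) :
    aEmb p' chart' U' hU' hd w hwd ≫ h =
      Spec.map (CommRingCat.ofHom (PConeImm.awayMapTo (u.gradedAt U hU U' hU' hle) f w hw)) ≫
        aEmb p chart U hU hd f hf := by
  subst hw
  exact hh.2 U hU U' hU' hle d hd f hf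

end Transport

theorem hom_restrictTop {S : Scheme.{u}} {𝒜 ℬ : RelProj.QCGrAlg S} (θ : 𝒜.toQCAlg ⟶ ℬ.toQCAlg)
    (z : 𝒜.presheaf.obj (op ⊤)) (U : S.Opens) (h : (θ.hom.app (op ⊤)).hom z = 0) :
    (θ.hom.app (op U)).hom (RelCone.restrictTop 𝒜 z U) = 0 := by
  refine (ConcreteCategory.congr_hom (θ.hom.naturality (homOfLE (le_top : U ≤ ⊤)).op) z).trans ?_
  show (ℬ.presheaf.map _).hom ((θ.hom.app (op ⊤)).hom z) = 0
  rw [h, map_zero]

variable {S S' : Scheme.{u}} {q : S' ⟶ S} {𝒮 : RelProj.QCGrAlg S} {𝒮' : RelProj.QCGrAlg S'}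
  {u : RelProj.QGrHom q 𝒮 𝒮'} {𝒮h : RelProj.QCGrAlg S} {ι : 𝒮.toQCAlg ⟶ 𝒮h.toQCAlg}
  {z : 𝒮h.presheaf.obj (op ⊤)} (hz : RelCone.IsPolyOver 𝒮 𝒮h ι z)
  {𝒮h' : RelProj.QCGrAlg S'} {ι' : 𝒮'.toQCAlg ⟶ 𝒮h'.toQCAlg}
  {z' : 𝒮h'.presheaf.obj (op ⊤)} (hz' : RelCone.IsPolyOver 𝒮' 𝒮h' ι' z')
  {uh : RelProj.QGrHom q 𝒮h 𝒮h'}
  (huh : ∀ U : S.Opens, ι.hom.app (op U) ≫ uh.app U = u.app U ≫ ι'.hom.app (op (q ⁻¹ᵁ U)))
  (huhz : (uh.app ⊤).hom z = RelCone.restrictTop 𝒮h' z' (q ⁻¹ᵁ ⊤))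

include huh in
theorem uh_ι {U : S.Opens} (hU : IsAffineOpen U) {U' : S'.Opens} (hU' : IsAffineOpen U') (hle : U' ≤ q ⁻¹ᵁ U)
    (x : 𝒮.presheaf.obj (op U)) :
    uh.gradedAt U hU U' hU' hle ((ι.hom.app (op U)).hom x) =
      (ι'.hom.app (op U')).hom (u.gradedAt U hU U' hU' hle x) := by
  show (𝒮h'.presheaf.map (homOfLE hle).op).hom ((uh.app U).hom ((ι.hom.app (op U)).hom x)) = _
  rw [show (uh.app U).hom ((ι.hom.app (op U)).hom x) = (ι'.hom.app (op (q ⁻¹ᵁ U))).hom ((u.app U).hom x) from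
    ConcreteCategory.congr_hom (huh U) x]
  exact (ConcreteCategory.congr_hom (ι'.hom.naturality (homOfLE hle).op) _).symm

include huhz in
theorem uh_z {U : S.Opens} (hU : IsAffineOpen U) {U' : S'.Opens} (hU' : IsAffineOpen U') (hle : U' ≤ q ⁻¹ᵁ U) :
    uh.gradedAt U hU U' hU' hle (RelCone.restrictTop 𝒮h z U) = RelCone.restrictTop 𝒮h' z' U' := by
  show (𝒮h'.presheaf.map (homOfLE hle).op).hom ((uh.app U).hom ((𝒮h.presheaf.map (homOfLE le_top).op).hom z)) = _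
  rw [show (uh.app U).hom ((𝒮h.presheaf.map (homOfLE (le_top : U ≤ ⊤)).op).hom z) =
      (𝒮h'.presheaf.map (homOfLE (q.preimage_mono (le_top : U ≤ ⊤))).op).hom ((uh.app ⊤).hom z) from
    (ConcreteCategory.congr_hom (uh.naturality (le_top : U ≤ ⊤)) z).symm, huhz]
  simp only [RelCone.restrictTop, ← ConcreteCategory.comp_apply, ← Functor.map_comp]
  rfl

variable {PC : Scheme.{u}} {pC : PC ⟶ S}
  {chartC : ∀ (U : S.Opens) (hU : IsAffineOpen U), (((pC ⁻¹ᵁ U : PC.Opens) : Scheme.{u}) ≅ Proj (𝒮h.deg U hU))}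
  (hC : RelProj.IsRelProj 𝒮h pC chartC)
  {PC' : Scheme.{u}} {pC' : PC' ⟶ S'}
  {chartC' : ∀ (U : S'.Opens) (hU : IsAffineOpen U), (((pC' ⁻¹ᵁ U : PC'.Opens) : Scheme.{u}) ≅ Proj (𝒮h'.deg U hU))}
  (hC' : RelProj.IsRelProj 𝒮h' pC' chartC')
  {Φh : ((RelProj.domQ uh pC' chartC' : PC'.Opens) : Scheme.{u}) ⟶ PC}
  (hΦh : RelProj.IsProjQMapOn uh pC chartC pC' chartC' (RelProj.domQ uh pC' chartC') Φh)

include hz huhz in
/-- `D₊(z')` lies in `G(φ̂)`. -/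
theorem emb_mem_domQ_of_z {U' : S'.Opens} (hU' : IsAffineOpen U') (v : Proj (𝒮h'.deg U' hU'))
    (hv : RelCone.restrictTop 𝒮h' z' U' ∉ v.asHomogeneousIdeal) {U : S.Opens} (hU : IsAffineOpen U)
    (hle : U' ≤ q ⁻¹ᵁ U) :
    (RelProj.emb pC' chartC' U' hU').base v ∈ RelProj.domQ uh pC' chartC' := by
  refine Opens.mem_iSup.mpr ⟨⟨(⟨U, hU⟩, ⟨U', hU'⟩), hle⟩, v, (RelCone.mem_domOpen _ _).mpr
    ⟨RelCone.restrictTop 𝒮h z U, HomogeneousIdeal.mem_irrelevant_of_mem _ one_pos (hz.deg_z U hU), ?_⟩, rfl⟩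
  rw [uh_z huhz hU hU' hle]
  exact hv

include hz hz' huh huhz hΦh in
theorem coneImm_comm {Φc : 𝒮'.toQCAlg.spec ⟶ 𝒮.toQCAlg.spec} (hΦc : RelSpec.IsSpecQMap u.toQHom Φc)
    {i : 𝒮.toQCAlg.spec ⟶ PC} (hi : RelCone.IsConeImm 𝒮 hz pC chartC i)
    {i' : 𝒮'.toQCAlg.spec ⟶ PC'} (hi' : RelCone.IsConeImm 𝒮' hz' pC' chartC' i') :
    Set.range i'.base ⊆ ((RelProj.domQ uh pC' chartC' : PC'.Opens) : Set PC') ∧
      ∀ i'' : 𝒮'.toQCAlg.spec ⟶ ((RelProj.domQ uh pC' chartC' : PC'.Opens) : Scheme.{u}),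
        i'' ≫ (RelProj.domQ uh pC' chartC').ι = i' → i'' ≫ Φh = Φc ≫ i := by
  refine ⟨?_, fun i'' hi'' => (RSGlue.pairCover q 𝒮'.toQCAlg).hom_ext _ _ fun j => ?_⟩
  · rintro _ ⟨y, rfl⟩
    obtain ⟨j, hj, -, -⟩ := RSGlue.exists_pair_le q (𝒮'.toQCAlg.π.base y) ⊤ ⊤ trivial trivial
    obtain ⟨w, rfl⟩ := RSGlue.exists_ι_eq 𝒮'.toQCAlg j.U' j.hU' y hj
    rw [← Scheme.Hom.comp_apply, hi' j.U' j.hU']
    refine emb_mem_domQ_of_z hz huhz j.hU' _ ?_ j.hU j.hle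
    exact (Proj.opensRange_awayι _ _ (hz'.deg_z j.U' j.hU') one_pos).le ⟨_, rfl⟩
  · obtain ⟨U, hU, U', hU', hle⟩ := j
    show 𝒮'.toQCAlg.ι U' hU' ≫ i'' ≫ Φh = 𝒮'.toQCAlg.ι U' hU' ≫ Φc ≫ i
    have hw := uh_z huhz hU hU' hle
    let l := IsOpenImmersion.lift (RelProj.domQ uh pC' chartC').ι
      (aEmb pC' chartC' U' hU' one_pos (RelCone.restrictTop 𝒮h' z' U') (hz'.deg_z U' hU'))
      (range_subset_domQ uh hU hU' hle one_pos (hz.deg_z U hU) hw (hz'.deg_z U' hU'))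
    have e : 𝒮'.toQCAlg.ι U' hU' ≫ i'' = Spec.map (CommRingCat.ofHom (hz'.awayZToBase U' hU')) ≫ l := by
      rw [← cancel_mono (RelProj.domQ uh pC' chartC').ι, Category.assoc, hi'', Category.assoc,
        IsOpenImmersion.lift_fac]
      exact hi' U' hU'
    rw [← Category.assoc, e, Category.assoc,
      lift_comp' uh hU hU' hle one_pos (hz.deg_z U hU) hw (hz'.deg_z U' hU') hΦh l (IsOpenImmersion.lift_fac _ _ _),
      ← Category.assoc (𝒮'.toQCAlg.ι U' hU'), hΦc U hU U' hU' hle, Category.assoc, hi U hU, ← Category.assoc,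
      ← Category.assoc (Spec.map (u.appLE U U' hle)), ← Spec.map_comp, ← Spec.map_comp]
    refine congrArg (fun m => Spec.map m ≫ _) (CommRingCat.hom_ext (RingHom.ext fun a => ?_))
    simp only [CommRingCat.hom_comp, RingHom.comp_apply, CommRingCat.hom_ofHom]
    refine ConeAlg.hom_ext (ι.hom.app (op U)).hom (fun i x hx => hz.graded U hU i x hx) _ (hz.deg_z U hU) (hz.bij U hU).2
      ((hz'.awayZToBase U' hU').comp (PConeImm.awayMapTo (uh.gradedAt U hU U' hU' hle) _ _ hw)).toAddMonoidHom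
      ((u.appLE U U' hle).hom.comp (hz.awayZToBase U hU)).toAddMonoidHom (fun k x hx => ?_) a
    show hz'.awayZToBase U' hU' (PConeImm.awayMapTo (uh.gradedAt U hU U' hU' hle) _ _ hw (ConeAlg.gen _ _ _ _ k x hx)) =
      (u.appLE U U' hle).hom (hz.awayZToBase U hU (ConeAlg.gen _ _ _ _ k x hx))
    rw [hz.awayZToBase_of_val U hU _ _ k (ConeAlg.gen_val ..), hz.evalOne_ι U hU x, ConeAlg.gen,
      PConeImm.awayMapTo_val, hz'.awayZToBase_of_val U' hU' _ _ k (Away.val_mk ..), uh_ι huh hU hU' hle x,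
      hz'.evalOne_ι U' hU']
    rfl

variable {P : Scheme.{u}} {p : P ⟶ S}
  {chart : ∀ (U : S.Opens) (hU : IsAffineOpen U), (((p ⁻¹ᵁ U : P.Opens) : Scheme.{u}) ≅ Proj (𝒮.deg U hU))}
  {P' : Scheme.{u}} {p' : P' ⟶ S'}
  {chart' : ∀ (U : S'.Opens) (hU : IsAffineOpen U), (((p' ⁻¹ᵁ U : P'.Opens) : Scheme.{u}) ≅ Proj (𝒮'.deg U hU))}

include hz hz' huh huhz hΦh in
theorem infinityImm_comm {Φ : ((RelProj.domQ u p' chart' : P'.Opens) : Scheme.{u}) ⟶ P}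
    (hΦ : RelProj.IsProjQMapOn u p chart p' chart' (RelProj.domQ u p' chart') Φ)
    {θ : 𝒮h.toQCAlg ⟶ 𝒮.toQCAlg} {hθ : RelProj.IsGradedHom θ} (hθι : ι ≫ θ = 𝟙 _)
    {jX : P ⟶ PC} (hjX : RelProj.IsProjQMap (RelProj.QGrHom.ofHom θ hθ) pC chartC p chart jX)
    {θ' : 𝒮h'.toQCAlg ⟶ 𝒮'.toQCAlg} {hθ' : RelProj.IsGradedHom θ'} (hθι' : ι' ≫ θ' = 𝟙 _)
    {jX' : P' ⟶ PC'} (hjX' : RelProj.IsProjQMap (RelProj.QGrHom.ofHom θ' hθ') pC' chartC' p' chart' jX')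
    (hθz : (θ.hom.app (op ⊤)).hom z = 0) (hθz' : (θ'.hom.app (op ⊤)).hom z' = 0)
    {T : Scheme.{u}} (d : T ⟶ ((RelProj.domQ u p' chart' : P'.Opens) : Scheme.{u}))
    (e : T ⟶ ((RelProj.domQ uh pC' chartC' : PC'.Opens) : Scheme.{u}))
    (hde : d ≫ (RelProj.domQ u p' chart').ι ≫ jX' = e ≫ (RelProj.domQ uh pC' chartC').ι) :
    jX'.base '' ((RelProj.domQ u p' chart' : P'.Opens) : Set P') ⊆
        ((RelProj.domQ uh pC' chartC' : PC'.Opens) : Set PC') ∧ e ≫ Φh = d ≫ Φ ≫ jX := by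
  have key : ∀ (j : Idx (g := q) (𝒮 := 𝒮)), ∃ (l : Spec (CommRingCat.of (Away (𝒮'.deg j.U' j.hU') (j.ψ u j.f))) ⟶
      ((RelProj.domQ uh pC' chartC' : PC'.Opens) : Scheme.{u})),
      l ≫ (RelProj.domQ uh pC' chartC').ι = j.src u p' chart' ≫ jX' ∧ l ≫ Φh = j.tgt u p chart ≫ jX := by
    intro j
    obtain ⟨U, hU, U', hU', hle, n, hn, f, hf⟩ := j
    let ψ := u.gradedAt U hU U' hU' hle
    have hw := uh_ι huh hU hU' hle f
    have hf1 : (ι.hom.app (op U)).hom f ∈ 𝒮h.deg U hU n := hz.graded U hU n f hf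
    have hw1 : (ι'.hom.app (op U')).hom (ψ f) ∈ 𝒮h'.deg U' hU' n := hz'.graded U' hU' n _ (ψ.2 hf)
    have hθ'' : (RelProj.QGrHom.ofHom θ' hθ').gradedAt U' hU' U' hU' le_rfl ((ι'.hom.app (op U')).hom (ψ f)) = ψ f :=
      (gradedAt_ofHom_apply θ' hθ' U' hU' le_rfl _).trans
        (ConcreteCategory.congr_hom (congrArg (fun m : 𝒮'.toQCAlg ⟶ 𝒮'.toQCAlg => m.hom.app (op U')) hθι') (ψ f))
    have hθf : (RelProj.QGrHom.ofHom θ hθ).gradedAt U hU U hU le_rfl ((ι.hom.app (op U)).hom f) = f :=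
      (gradedAt_ofHom_apply θ hθ U hU le_rfl _).trans
        (ConcreteCategory.congr_hom (congrArg (fun m : 𝒮.toQCAlg ⟶ 𝒮.toQCAlg => m.hom.app (op U)) hθι) f)
    let l₀ := IsOpenImmersion.lift (RelProj.domQ uh pC' chartC').ι (aEmb pC' chartC' U' hU' hn _ hw1)
      (range_subset_domQ uh hU hU' hle hn hf1 hw hw1)
    refine ⟨Spec.map (CommRingCat.ofHom (PConeImm.awayMapTo ((RelProj.QGrHom.ofHom θ' hθ').gradedAt U' hU' U' hU' le_rfl)
      _ _ hθ'')) ≫ l₀, ?_, ?_⟩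
    · rw [Category.assoc, IsOpenImmersion.lift_fac]
      exact (qmap_comp' (RelProj.QGrHom.ofHom θ' hθ') hU' hU' le_rfl hn hw1 hθ'' (ψ.2 hf) hjX').symm
    · rw [Category.assoc, lift_comp' uh hU hU' hle hn hf1 hw hw1 hΦh l₀ (IsOpenImmersion.lift_fac _ _ _)]
      show _ = (Spec.map (CommRingCat.ofHom (Away.map ψ f)) ≫ aEmb p chart U hU hn f hf) ≫ jX
      rw [Category.assoc, qmap_comp' (RelProj.QGrHom.ofHom θ hθ) hU hU le_rfl hn hf1 hθf hf hjX, ← Category.assoc,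
        ← Category.assoc (Spec.map (CommRingCat.ofHom (Away.map ψ f))), ← Spec.map_comp, ← Spec.map_comp]
      refine congrArg (fun m => Spec.map m ≫ _) (CommRingCat.hom_ext (RingHom.ext fun a => ?_))
      simp only [CommRingCat.hom_comp, RingHom.comp_apply, CommRingCat.hom_ofHom]
      obtain ⟨k, b, hb, rfl⟩ := Away.mk_surjective (𝒮h.deg U hU) hf1 a
      simp only [PConeImm.awayMapTo_val, Away.map_mk]
      refine val_injective _ ?_
      simp only [Away.val_mk]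
      refine congrArg (fun c => Localization.mk c _) ?_
      -- the two composites `Sh(U) → S'(U')`
      obtain ⟨r, rfl⟩ := (hz.bij U hU).2 b
      have hcomp : ((RelProj.QGrHom.ofHom θ' hθ').gradedAt U' hU' U' hU' le_rfl : 𝒮h'.presheaf.obj (op U') →+* 𝒮'.presheaf.obj (op U')).comp
            ((uh.gradedAt U hU U' hU' hle : 𝒮h.presheaf.obj (op U) →+* 𝒮h'.presheaf.obj (op U')).comp
              (ι.hom.app (op U)).hom) =
          ((ψ : 𝒮.presheaf.obj (op U) →+* 𝒮'.presheaf.obj (op U')).comp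
            ((RelProj.QGrHom.ofHom θ hθ).gradedAt U hU U hU le_rfl : 𝒮h.presheaf.obj (op U) →+* 𝒮.presheaf.obj (op U))).comp
              (ι.hom.app (op U)).hom := by
        refine RingHom.ext fun x => ?_
        show (RelProj.QGrHom.ofHom θ' hθ').gradedAt U' hU' U' hU' le_rfl (uh.gradedAt U hU U' hU' hle _) =
          ψ ((RelProj.QGrHom.ofHom θ hθ).gradedAt U hU U hU le_rfl _)
        rw [uh_ι huh hU hU' hle x, gradedAt_ofHom_apply, gradedAt_ofHom_apply]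
        exact (ConcreteCategory.congr_hom (congrArg (fun m : 𝒮'.toQCAlg ⟶ 𝒮'.toQCAlg => m.hom.app (op U')) hθι') _).trans
          (congrArg ψ (ConcreteCategory.congr_hom (congrArg (fun m : 𝒮.toQCAlg ⟶ 𝒮.toQCAlg => m.hom.app (op U)) hθι) x).symm)
      show ((RelProj.QGrHom.ofHom θ' hθ').gradedAt U' hU' U' hU' le_rfl : 𝒮h'.presheaf.obj (op U') →+* 𝒮'.presheaf.obj (op U'))
          ((uh.gradedAt U hU U' hU' hle : 𝒮h.presheaf.obj (op U) →+* 𝒮h'.presheaf.obj (op U')) (Polynomial.eval₂ _ _ r)) =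
        (ψ : 𝒮.presheaf.obj (op U) →+* 𝒮'.presheaf.obj (op U'))
          (((RelProj.QGrHom.ofHom θ hθ).gradedAt U hU U hU le_rfl : 𝒮h.presheaf.obj (op U) →+* 𝒮.presheaf.obj (op U)) (Polynomial.eval₂ _ _ r))
      rw [← RingHom.comp_apply, ← RingHom.comp_apply, Polynomial.hom_eval₂, Polynomial.hom_eval₂, RingHom.comp_assoc,
        hcomp]
      refine congrArg (fun c => Polynomial.eval₂ _ c r) ?_
      show (RelProj.QGrHom.ofHom θ' hθ').gradedAt U' hU' U' hU' le_rfl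
          (uh.gradedAt U hU U' hU' hle (RelCone.restrictTop 𝒮h z U)) =
        ψ ((RelProj.QGrHom.ofHom θ hθ).gradedAt U hU U hU le_rfl (RelCone.restrictTop 𝒮h z U))
      rw [uh_z huhz hU hU' hle, gradedAt_ofHom_apply, gradedAt_ofHom_apply, hom_restrictTop θ' z' U' hθz',
        hom_restrictTop θ z U hθz, map_zero]
  refine ⟨?_, ?_⟩
  · rintro _ ⟨x, hx, rfl⟩
    obtain ⟨j, w, rfl⟩ := exists_src_eq u x hx
    obtain ⟨l, hl, -⟩ := key j
    rw [← Scheme.Hom.comp_apply, ← hl, Scheme.Hom.comp_apply]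
    exact (l.base w).2
  · refine Scheme.Cover.hom_ext ((cover u (p' := p') (chart' := chart')).pullback₁ d) _ _ fun j => ?_
    obtain ⟨l, hl, hl'⟩ := key j
    show pullback.fst d (j.lift u) ≫ e ≫ Φh = pullback.fst d (j.lift u) ≫ d ≫ Φ ≫ jX
    have he : pullback.fst d (j.lift u) ≫ e = pullback.snd d (j.lift u) ≫ l := by
      rw [← cancel_mono (RelProj.domQ uh pC' chartC').ι, Category.assoc, ← hde, Category.assoc, hl,
        reassoc_of% pullback.condition, ← Category.assoc (j.lift u), lift_fac u j]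
    rw [← Category.assoc, he, Category.assoc, hl', reassoc_of% pullback.condition, ← Category.assoc (j.lift u),
      lift_comp u hΦ j]

end Groth.L18.QMap

namespace Groth.L18.QMap

open HomogeneousIdeal CategoryTheory AlgebraicGeometry CategoryTheory.Limits Opposite TopologicalSpace
open Groth.L18

universe w

section Pointed

variable {S S' : Scheme.{w}} {q : S' ⟶ S} {𝒮 : RelProj.QCGrAlg S} {𝒮' : RelProj.QCGrAlg S'}
  {u : RelProj.QGrHom q 𝒮 𝒮'} {𝒮h : RelProj.QCGrAlg S} {ι : 𝒮.toQCAlg ⟶ 𝒮h.toQCAlg}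
  {z : 𝒮h.presheaf.obj (op ⊤)} (hz : RelCone.IsPolyOver 𝒮 𝒮h ι z)
  {𝒮h' : RelProj.QCGrAlg S'} {ι' : 𝒮'.toQCAlg ⟶ 𝒮h'.toQCAlg}
  {z' : 𝒮h'.presheaf.obj (op ⊤)} (hz' : RelCone.IsPolyOver 𝒮' 𝒮h' ι' z')
  {uh : RelProj.QGrHom q 𝒮h 𝒮h'}
  (huh : ∀ U : S.Opens, ι.hom.app (op U) ≫ uh.app U = u.app U ≫ ι'.hom.app (op (q ⁻¹ᵁ U)))
  (huhz : (uh.app ⊤).hom z = RelCone.restrictTop 𝒮h' z' (q ⁻¹ᵁ ⊤))
  {PC : Scheme.{w}} {pC : PC ⟶ S}
  {chartC : ∀ (U : S.Opens) (hU : IsAffineOpen U), (((pC ⁻¹ᵁ U : PC.Opens) : Scheme.{w}) ≅ Proj (𝒮h.deg U hU))}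
  (hC : RelProj.IsRelProj 𝒮h pC chartC)
  {PC' : Scheme.{w}} {pC' : PC' ⟶ S'}
  {chartC' : ∀ (U : S'.Opens) (hU : IsAffineOpen U), (((pC' ⁻¹ᵁ U : PC'.Opens) : Scheme.{w}) ≅ Proj (𝒮h'.deg U hU))}
  (hC' : RelProj.IsRelProj 𝒮h' pC' chartC')

include hz hC in
theorem pointedProjCone_eq_domQ :
    RelCone.pointedProjCone 𝒮 hz pC chartC = RelProj.domQ (RelProj.QGrHom.ofHom ι hz.graded) pC chartC := by
  refine le_antisymm (iSup_le fun U => ?_) fun x hx => ?_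
  · rw [← gradedAt_ofHom ι hz.graded U.1 U.2 le_rfl, ← domQ_inf_eq _ hC U.2 U.2 le_rfl]
    exact inf_le_left
  · obtain ⟨⟨U, hU⟩, hxU⟩ := Opens.mem_iSup.mp ((iSup_affineOpens_eq_top S).ge (trivial : pC.base x ∈ (⊤ : S.Opens)))
    obtain ⟨v, rfl⟩ := exists_point (chart := chartC) U hU x hxU
    refine Opens.mem_iSup.mpr ⟨⟨U, hU⟩, v, ?_, rfl⟩
    have h := (mem_domQ_iff _ hC hU hU le_rfl v).mp hx
    rwa [gradedAt_ofHom ι hz.graded U hU le_rfl] at h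

variable {Φh : ((RelProj.domQ uh pC' chartC' : PC'.Opens) : Scheme.{w}) ⟶ PC}
  (hΦh : RelProj.IsProjQMapOn uh pC chartC pC' chartC' (RelProj.domQ uh pC' chartC') Φh)
  {P' : Scheme.{w}} {p' : P' ⟶ S'}
  {chart' : ∀ (U : S'.Opens) (hU : IsAffineOpen U), (((p' ⁻¹ᵁ U : P'.Opens) : Scheme.{w}) ≅ Proj (𝒮'.deg U hU))}
  (hP' : RelProj.IsRelProj 𝒮' p' chart')

include hz hz' huh huhz hC hC' hΦh hP' in
theorem pointed_preimage_le :
    (RelProj.domQ uh pC' chartC').ι ''ᵁ (Φh ⁻¹ᵁ RelCone.pointedProjCone 𝒮 hz pC chartC) ≤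
        RelCone.pointedProjCone 𝒮' hz' pC' chartC' ∧
      (RelProj.domQ u p' chart' = ⊤ →
        RelProj.domQ uh pC' chartC' = ⊤ ∧
          (RelProj.domQ uh pC' chartC').ι ''ᵁ (Φh ⁻¹ᵁ RelCone.pointedProjCone 𝒮 hz pC chartC) =
            RelCone.pointedProjCone 𝒮' hz' pC' chartC') := by
  have hle1 : (RelProj.domQ uh pC' chartC').ι ''ᵁ (Φh ⁻¹ᵁ RelCone.pointedProjCone 𝒮 hz pC chartC) ≤
      RelCone.pointedProjCone 𝒮' hz' pC' chartC' := by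
    rintro _ ⟨x, hx, rfl⟩
    obtain ⟨⟨U, hU⟩, c, hc, hcx⟩ := Opens.mem_iSup.mp hx
    obtain ⟨f, hf, hfc⟩ := (RelCone.mem_domOpen _ _).mp hc
    obtain ⟨d, hd, f', hf', hfc'⟩ := (PConeImm.exists_homogeneous_not_mem
      (p := c.asHomogeneousIdeal.toIdeal.comap (RelProj.gradedHomAt ι hz.graded U hU))).mp ⟨f, hf, hfc⟩
    have hy : q.base (pC'.base x.1) ∈ U := by
      have h1 : pC.base (Φh.base x) ∈ U := hcx ▸ π_emb_mem (chart := chartC) U hU c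
      have h2 : pC.base (Φh.base x) = q.base (pC'.base x.1) :=
        congrArg (fun m : ((RelProj.domQ uh pC' chartC' : PC'.Opens) : Scheme.{w}) ⟶ S => m.base x)
          (comp_base uh hC hC' hΦh)
      rwa [h2] at h1
    obtain ⟨pr, hpr, hprU, -⟩ := RSGlue.exists_pair_le q (pC'.base x.1) U ⊤ trivial hy
    have hle : pr.U' ≤ q ⁻¹ᵁ U := fun y h => hprU (pr.hle h)
    obtain ⟨v, hv⟩ := exists_point (chart := chartC') pr.U' pr.hU' x.1 hpr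
    have hm := (mem_preimage_iff uh hC hC' hΦh x hU pr.hU' hle v hv hd ((ι.hom.app (op U)).hom f')
      (hz.graded U hU d f' hf')).mp (by
        rw [← show (RelProj.emb pC chartC U hU).base c = Φh.base x from hcx]
        exact (mem_range_aEmb (p := pC) (chart := chartC) U hU hd _ _ c).mpr hfc')
    rw [uh_ι huh hU pr.hU' hle f'] at hm
    exact Opens.mem_iSup.mpr ⟨⟨pr.U', pr.hU'⟩, v, (RelCone.mem_domOpen _ _).mpr
      ⟨_, HomogeneousIdeal.mem_irrelevant_of_mem _ hd ((u.gradedAt U hU pr.U' pr.hU' hle).2 hf'), hm⟩, hv⟩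
  refine ⟨hle1, fun htop => ?_⟩
  have key : ∀ {U : S.Opens} (hU : IsAffineOpen U) {U' : S'.Opens} (hU' : IsAffineOpen U') (hle : U' ≤ q ⁻¹ᵁ U)
      (v : Proj (𝒮h'.deg U' hU')),
      (∃ f ∈ (HomogeneousIdeal.irrelevant (𝒮'.deg U' hU')).toIdeal,
        RelProj.gradedHomAt ι' hz'.graded U' hU' f ∉ v.asHomogeneousIdeal) →
      ∃ (d : ℕ) (_ : 0 < d) (f : 𝒮.presheaf.obj (op U)), f ∈ 𝒮.deg U hU d ∧
        uh.gradedAt U hU U' hU' hle ((ι.hom.app (op U)).hom f) ∉ v.asHomogeneousIdeal := by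
    intro U hU U' hU' hle v ⟨g, hg, hgv⟩
    let w : ProjectiveSpectrum (𝒮'.deg U' hU') :=
      { asHomogeneousIdeal := v.asHomogeneousIdeal.comap (RelProj.gradedHomAt ι' hz'.graded U' hU')
        isPrime := v.isPrime.comap (RelProj.gradedHomAt ι' hz'.graded U' hU')
        not_irrelevant_le := fun h => hgv (h hg) }
    have hwdom : (RelProj.emb p' chart' U' hU').base w ∈ RelProj.domQ u p' chart' := by rw [htop]; trivial
    obtain ⟨a, ha, haw⟩ := (RelCone.mem_domOpen (u.gradedAt U hU U' hU' hle) w).mp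
      ((mem_domQ_iff u hP' hU hU' hle w).mp hwdom)
    obtain ⟨d, hd, f, hf, hfw⟩ := (PConeImm.exists_homogeneous_not_mem
      (p := w.asHomogeneousIdeal.toIdeal.comap (u.gradedAt U hU U' hU' hle))).mp ⟨a, ha, haw⟩
    refine ⟨d, hd, f, hf, ?_⟩
    rw [uh_ι huh hU hU' hle f]
    exact hfw
  have htop' : RelProj.domQ uh pC' chartC' = ⊤ := by
    refine top_le_iff.mp fun x _ => ?_
    obtain ⟨pr, hpr, -, -⟩ := RSGlue.exists_pair_le q (pC'.base x) ⊤ ⊤ trivial trivial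
    obtain ⟨v, rfl⟩ := exists_point (chart := chartC') pr.U' pr.hU' x hpr
    by_cases hv : RelCone.restrictTop 𝒮h' z' pr.U' ∈ v.asHomogeneousIdeal
    · obtain ⟨d, hd, f, hf, hfv⟩ := key pr.hU pr.hU' pr.hle v
        (PConeImm.exists_not_mem_of_z_mem (RelProj.gradedHomAt ι' hz'.graded pr.U' pr.hU') _ (hz'.deg_z pr.U' pr.hU')
          (hz'.bij pr.U' pr.hU').2 v hv)
      exact (mem_domQ_iff uh hC' pr.hU pr.hU' pr.hle v).mpr ((RelCone.mem_domOpen _ _).mpr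
        ⟨_, HomogeneousIdeal.mem_irrelevant_of_mem _ hd (hz.graded pr.U pr.hU d f hf), hfv⟩)
    · exact emb_mem_domQ_of_z hz huhz pr.hU' v hv pr.hU pr.hle
  refine ⟨htop', le_antisymm hle1 fun x hx => ?_⟩
  have hxW : x ∈ RelProj.domQ uh pC' chartC' := by rw [htop']; trivial
  obtain ⟨pr, hpr, -, -⟩ := RSGlue.exists_pair_le q (pC'.base x) ⊤ ⊤ trivial trivial
  obtain ⟨v, rfl⟩ := exists_point (chart := chartC') pr.U' pr.hU' x hpr
  rw [pointedProjCone_eq_domQ hz' hC'] at hx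
  have hv := (mem_domQ_iff _ hC' pr.hU' pr.hU' le_rfl v).mp hx
  rw [gradedAt_ofHom ι' hz'.graded pr.U' pr.hU' le_rfl] at hv
  obtain ⟨d, hd, f, hf, hfv⟩ := key pr.hU pr.hU' pr.hle v ((RelCone.mem_domOpen _ _).mp hv)
  refine ⟨⟨_, hxW⟩, ?_, rfl⟩
  obtain ⟨q₀, hq₀⟩ := (mem_preimage_iff uh hC hC' hΦh ⟨_, hxW⟩ pr.hU pr.hU' pr.hle v rfl hd
    ((ι.hom.app (op pr.U)).hom f) (hz.graded pr.U pr.hU d f hf)).mpr hfv
  show Φh.base _ ∈ RelCone.pointedProjCone 𝒮 hz pC chartC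
  rw [← hq₀]
  exact Opens.mem_iSup.mpr ⟨⟨pr.U, pr.hU⟩, _, (RelCone.mem_domOpen _ _).mpr ⟨f,
    HomogeneousIdeal.mem_irrelevant_of_mem _ hd hf,
    (Proj.opensRange_awayι (𝒮h.deg pr.U pr.hU) _ (hz.graded pr.U pr.hU d f hf) hd).le ⟨q₀, rfl⟩⟩, rfl⟩

end Pointed

end Groth.L18.QMap
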