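import Groth.Agent.L18.QMap.ConeRetraction
import Groth.Agent.L18.RelProj.GenDegOne
import Mathlib.RingTheory.PolynomialAlgebra
import Mathlib.Algebra.Polynomial.Laurent
import Mathlib.RingTheory.Localization.BaseChange
import Mathlib.AlgebraicGeometry.ResidueField
import Mathlib.AlgebraicGeometry.Morphisms.FiniteType

/-!
# The projective cone retraction in degree one: finite type, fibres
-/

noncomputable section

namespace Groth.L18.ConeFib

open HomogeneousIdeal CategoryTheory AlgebraicGeometry CategoryTheory.Limits Opposite TopologicalSpace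
open HomogeneousLocalization Polynomial
open Groth.L18 Groth.L18.QMap

universe u

section Ring

variable {A B σ τ : Type u} [CommRing A] [CommRing B] [SetLike σ A] [AddSubgroupClass σ A]
  [SetLike τ B] [AddSubgroupClass τ B] {𝒜 : ℕ → σ} [GradedRing 𝒜] {ℬ : ℕ → τ} [GradedRing ℬ]
  (ι : 𝒜 →+*ᵍ ℬ) {z : B} (hz : z ∈ ℬ 1)
  (hbij : Function.Bijective (Polynomial.eval₂RingHom (ι : A →+* B) z)) {f : A} (hf : f ∈ 𝒜 1)

/-- The element `z / ι f` of the degree-zero localization. -/
abbrev ratio : Away ℬ (ι f) := Away.mk ℬ (ι.2 hf) 1 z (by simpa using hz)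

/-- `A_(f)[T] → B_(ι f)`, `T ↦ z / ι f`. -/
def polyMap : (Away 𝒜 f)[X] →+* Away ℬ (ι f) :=
  Polynomial.eval₂RingHom (Away.map ι f) (ratio ι hz hf)

theorem polyMap_C (a : Away 𝒜 f) : polyMap ι hz hf (Polynomial.C a) = Away.map ι f a := by
  simp [polyMap]

theorem polyMap_X : polyMap ι hz hf Polynomial.X = ratio ι hz hf := by simp [polyMap]

include hbij in
theorem polyMap_surjective : Function.Surjective (polyMap ι hz hf) := by
  intro x
  obtain ⟨n, b, hb, rfl⟩ := Away.mk_surjective ℬ (ι.2 hf) x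
  have hb' : b ∈ ℬ n := by simpa using hb
  have hmem := ConeAlg.mem_closure_of_mem (𝒜 := 𝒜) (ℬ := ℬ) (ι : A →+* B) (fun i a (ha : a ∈ 𝒜 i) => ι.2 ha) z hz
    hbij.2 n hb'
  suffices h : ∀ y ∈ AddSubgroup.closure {y : B | ∃ i j x, i + j = n ∧ x ∈ 𝒜 i ∧ y = (ι : A →+* B) x * z ^ j},
      ∃ (hy : y ∈ ℬ (n • 1)) (P : (Away 𝒜 f)[X]), polyMap ι hz hf P = Away.mk ℬ (ι.2 hf) n y hy by
    obtain ⟨_, P, hP⟩ := h b hmem
    exact ⟨P, hP⟩
  intro y hy
  clear hb' hb hmem
  induction hy using AddSubgroup.closure_induction with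
  | mem y hy =>
    obtain ⟨i, j, a, rfl, ha, rfl⟩ := hy
    refine ⟨by simpa using SetLike.mul_mem_graded (ι.2 ha) (by simpa using SetLike.pow_mem_graded j hz),
      Polynomial.C (Away.mk 𝒜 hf i a (by simpa using ha)) * Polynomial.X ^ j, ?_⟩
    rw [map_mul, map_pow, polyMap_C, polyMap_X, ratio, Away.map_mk]
    refine val_injective _ ?_
    rw [val_mul, val_pow, Away.val_mk, Away.val_mk, Away.val_mk, Localization.mk_pow, Localization.mk_mul,
      Localization.mk_eq_mk_iff, Localization.r_iff_exists]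
    exact ⟨1, by simp [pow_add]⟩
  | zero => exact ⟨zero_mem _, 0, val_injective _ (by simp [Localization.mk_zero])⟩
  | add a b _ _ ha hb =>
    obtain ⟨h₁, P, hP⟩ := ha
    obtain ⟨h₂, Q, hQ⟩ := hb
    refine ⟨add_mem h₁ h₂, P + Q, ?_⟩
    rw [map_add, hP, hQ]
    exact val_injective _ (by simp [val_add, Localization.add_mk_self])
  | neg a _ ha =>
    obtain ⟨h₁, P, hP⟩ := ha
    refine ⟨neg_mem h₁, -P, ?_⟩
    rw [map_neg, hP]
    exact val_injective _ (by simp [val_neg, Localization.neg_mk])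

include hbij in
theorem polyMap_injective : Function.Injective (polyMap ι hz hf) := by
  let Sf := Localization.Away f
  let u : Sfˣ := (IsLocalization.Away.algebraMap_isUnit (S := Sf) f).unit
  let g : B →+* Sf[X] := (Polynomial.mapRingHom (algebraMap A Sf)).comp (RingEquiv.ofBijective _ hbij).symm.toRingHom
  have gι : ∀ a, g ((ι : A →+* B) a) = Polynomial.C (algebraMap A Sf a) := fun a => by
    show Polynomial.map _ ((RingEquiv.ofBijective _ hbij).symm _) = _
    rw [show (ι : A →+* B) a = (RingEquiv.ofBijective _ hbij) (Polynomial.C a) by simp, RingEquiv.symm_apply_apply]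
    simp
  have gz : g z = Polynomial.X := by
    show Polynomial.map _ ((RingEquiv.ofBijective _ hbij).symm _) = _
    rw [show (RingEquiv.ofBijective _ hbij).symm z = Polynomial.X from
      (RingEquiv.ofBijective _ hbij).injective (by simp)]
    simp
  have gunit : IsUnit (g (ι f)) := by
    rw [show g (ι f) = g ((ι : A →+* B) f) from rfl, gι]
    exact (IsLocalization.Away.algebraMap_isUnit (S := Sf) f).map Polynomial.C
  let L : Away ℬ (ι f) →+* Sf[X] :=
    (IsLocalization.Away.lift (ι f) gunit).comp (algebraMap (Away ℬ (ι f)) (Localization.Away (ι f)))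
  have Lval : ∀ x : Away ℬ (ι f), L x = IsLocalization.Away.lift (ι f) gunit x.val := fun x => rfl
  have LmK : ∀ (n : ℕ) (b : B) (hb : b ∈ ℬ (n • 1)),
      L (Away.mk ℬ (ι.2 hf) n b hb) * Polynomial.C (algebraMap A Sf f) ^ n = g b := by
    intro n b hb
    have h1 : Localization.mk b (⟨ι f ^ n, n, rfl⟩ : Submonoid.powers (ι f)) *
        algebraMap B (Localization.Away (ι f)) (ι f ^ n) = algebraMap B (Localization.Away (ι f)) b := by
      rw [Localization.mk_eq_mk']
      exact IsLocalization.mk'_spec _ _ _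
    have h2 := congrArg (IsLocalization.Away.lift (S := Localization.Away (ι f)) (ι f) gunit) h1
    rw [map_mul, IsLocalization.Away.lift_eq, IsLocalization.Away.lift_eq, map_pow,
      show g (ι f) = g ((ι : A →+* B) f) from rfl, gι] at h2
    rw [Lval, Away.val_mk]
    exact h2
  have Lmap : ∀ a : Away 𝒜 f, L (Away.map ι f a) = Polynomial.C a.val := by
    intro a
    obtain ⟨n, x, hx, rfl⟩ := Away.mk_surjective 𝒜 hf a
    refine (((IsLocalization.Away.algebraMap_isUnit (S := Sf) f).map Polynomial.C).pow n).mul_left_inj.mp ?_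
    rw [Away.map_mk, LmK n (ι x) (ι.2 hx), ← map_pow Polynomial.C, ← map_mul Polynomial.C,
      show g (ι x) = g ((ι : A →+* B) x) from rfl, gι, Away.val_mk, Localization.mk_eq_mk', ← map_pow,
      show algebraMap A Sf (f ^ n) = algebraMap A Sf ((⟨f ^ n, n, rfl⟩ : Submonoid.powers f) : A) from rfl,
      IsLocalization.mk'_spec]
  have Lratio : L (ratio ι hz hf) = Polynomial.C ((u⁻¹ : Sfˣ) : Sf) * Polynomial.X := by
    refine ((IsLocalization.Away.algebraMap_isUnit (S := Sf) f).map Polynomial.C).mul_left_inj.mp ?_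
    have h := LmK 1 z (by simpa using hz)
    rw [pow_one, gz] at h
    rw [h, mul_right_comm, ← map_mul, show algebraMap A Sf f = (u : Sf) from rfl, Units.inv_mul, map_one, one_mul]
  have key : L.comp (polyMap ι hz hf) =
      Polynomial.eval₂RingHom ((Polynomial.C).comp (algebraMap (Away 𝒜 f) (Localization.Away f)))
        (Polynomial.C ((u⁻¹ : Sfˣ) : Sf) * Polynomial.X) := by
    refine Polynomial.ringHom_ext (fun a => ?_) ?_
    · rw [RingHom.comp_apply, polyMap_C, Lmap]
      simp
    · rw [RingHom.comp_apply, polyMap_X, Lratio]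
      simp
  rw [injective_iff_map_eq_zero]
  intro P hP
  have h : L.comp (polyMap ι hz hf) P = 0 := by rw [RingHom.comp_apply, hP, map_zero]
  rw [key] at h
  refine Polynomial.ext fun j => ?_
  have hcoe : (Polynomial.eval₂RingHom ((Polynomial.C).comp (algebraMap (Away 𝒜 f) (Localization.Away f)))
      (Polynomial.C ((u⁻¹ : Sfˣ) : Sf) * Polynomial.X)) P =
      (P.map (algebraMap (Away 𝒜 f) (Localization.Away f))).comp (Polynomial.C ((u⁻¹ : Sfˣ) : Sf) * Polynomial.X) := by
    rw [Polynomial.comp, Polynomial.eval₂_map]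
    rfl
  rw [hcoe] at h
  have hj := congrArg (fun q : Sf[X] => q.coeff j) h
  simp only [Polynomial.comp_C_mul_X_coeff, Polynomial.coeff_map, Polynomial.coeff_zero] at hj
  rw [Polynomial.coeff_zero]
  refine val_injective _ ?_
  rw [val_zero]
  exact (u⁻¹.isUnit.pow j).mul_left_eq_zero.mp hj

/-- `A_(f)[T] ≃ B_(ι f)`. -/
def polyEquiv : (Away 𝒜 f)[X] ≃+* Away ℬ (ι f) :=
  RingEquiv.ofBijective (polyMap ι hz hf) ⟨polyMap_injective ι hz hbij hf, polyMap_surjective ι hz hbij hf⟩

end Ring

section Fibre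

open scoped LaurentPolynomial

variable {E P : Scheme.{u}} {r : E ⟶ P} {A : CommRingCat.{u}} {a : Spec A ⟶ P} [IsOpenImmersion a]

theorem fibre_poly {g : Spec (CommRingCat.of A[X]) ⟶ E}
    (h : IsPullback (Spec.map (CommRingCat.ofHom (Polynomial.C : A →+* A[X]))) g a r) {x : P}
    (hx : x ∈ Set.range a.base) :
    ∃ e : pullback r (P.fromSpecResidueField x) ≅ Spec (CommRingCat.of (Polynomial (P.residueField x))),
      e.hom ≫ Spec.map (CommRingCat.ofHom (algebraMap (P.residueField x) (Polynomial (P.residueField x)))) =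
        pullback.snd r (P.fromSpecResidueField x) := by
  let xt := IsOpenImmersion.lift a (P.fromSpecResidueField x) (by
    rw [Scheme.range_fromSpecResidueField]; simpa using hx)
  obtain ⟨ψ, hψ⟩ : ∃ ψ : A ⟶ P.residueField x, Spec.map ψ = xt := ⟨Spec.preimage xt, Spec.map_preimage xt⟩
  letI : Algebra A (P.residueField x) := ψ.hom.toAlgebra
  letI : Algebra A[X] (Polynomial (P.residueField x)) := (Polynomial.mapRingHom ψ.hom).toAlgebra
  have hpo : IsPushout (CommRingCat.ofHom (algebraMap A A[X])) (CommRingCat.ofHom (algebraMap A (P.residueField x)))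
      (CommRingCat.ofHom (algebraMap A[X] (Polynomial (P.residueField x))))
      (CommRingCat.ofHom (algebraMap (P.residueField x) (Polynomial (P.residueField x)))) :=
    CommRingCat.isPushout_iff_isPushout.mpr inferInstance
  have h2 := ((isPullback_SpecMap_of_isPushout _ _ _ _ hpo).flip).paste_vert h
  rw [show Spec.map (CommRingCat.ofHom (algebraMap A (P.residueField x))) ≫ a = P.fromSpecResidueField x from by
    rw [← CommRingCat.ofHom_hom ψ] at hψ
    rw [show (algebraMap A (P.residueField x)) = ψ.hom from rfl, hψ]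
    exact IsOpenImmersion.lift_fac _ _ _] at h2
  exact ⟨h2.flip.isoPullback.symm, by rw [Iso.symm_hom, h2.flip.isoPullback_inv_snd]⟩

theorem fibre_laurent {g : Spec (CommRingCat.of A[T;T⁻¹]) ⟶ E}
    (h : IsPullback (Spec.map (CommRingCat.ofHom (algebraMap A A[T;T⁻¹]))) g a r) {x : P}
    (hx : x ∈ Set.range a.base) :
    ∃ e : pullback r (P.fromSpecResidueField x) ≅ Spec (CommRingCat.of (LaurentPolynomial (P.residueField x))),
      e.hom ≫ Spec.map (CommRingCat.ofHom (algebraMap (P.residueField x) (LaurentPolynomial (P.residueField x)))) =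
        pullback.snd r (P.fromSpecResidueField x) := by
  let xt := IsOpenImmersion.lift a (P.fromSpecResidueField x) (by
    rw [Scheme.range_fromSpecResidueField]; simpa using hx)
  obtain ⟨ψ, hψ⟩ : ∃ ψ : A ⟶ P.residueField x, Spec.map ψ = xt := ⟨Spec.preimage xt, Spec.map_preimage xt⟩
  letI : Algebra A (P.residueField x) := ψ.hom.toAlgebra
  letI : Algebra A[X] (Polynomial (P.residueField x)) := (Polynomial.mapRingHom ψ.hom).toAlgebra
  let m : A[T;T⁻¹] →+* LaurentPolynomial (P.residueField x) :=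
    IsLocalization.Away.lift (X : A[X]) (g := (algebraMap (Polynomial (P.residueField x))
      (LaurentPolynomial (P.residueField x))).comp (Polynomial.mapRingHom ψ.hom)) (by
      simp only [RingHom.comp_apply, Polynomial.coe_mapRingHom, Polynomial.map_X]
      exact IsLocalization.Away.algebraMap_isUnit _)
  letI : Algebra A[T;T⁻¹] (LaurentPolynomial (P.residueField x)) := m.toAlgebra
  letI : Algebra A[X] (LaurentPolynomial (P.residueField x)) :=
    ((algebraMap (Polynomial (P.residueField x)) (LaurentPolynomial (P.residueField x))).comp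
      (Polynomial.mapRingHom ψ.hom)).toAlgebra
  haveI : IsScalarTower A[X] (Polynomial (P.residueField x)) (LaurentPolynomial (P.residueField x)) :=
    IsScalarTower.of_algebraMap_eq' rfl
  haveI : IsScalarTower A[X] A[T;T⁻¹] (LaurentPolynomial (P.residueField x)) :=
    IsScalarTower.of_algebraMap_eq fun p => (IsLocalization.Away.lift_eq (S := A[T;T⁻¹]) (X : A[X]) _ p).symm
  haveI : IsLocalization (Algebra.algebraMapSubmonoid (Polynomial (P.residueField x)) (Submonoid.powers (X : A[X])))
      (LaurentPolynomial (P.residueField x)) := by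
    rw [Algebra.algebraMapSubmonoid_powers,
      show algebraMap A[X] (Polynomial (P.residueField x)) X = X from Polynomial.map_X ψ.hom]
    exact LaurentPolynomial.isLocalization
  have hloc : Algebra.IsPushout A[X] A[T;T⁻¹] (Polynomial (P.residueField x)) (LaurentPolynomial (P.residueField x)) :=
    (Algebra.isPushout_of_isLocalization (Submonoid.powers (X : A[X])) A[T;T⁻¹] (Polynomial (P.residueField x))
      (LaurentPolynomial (P.residueField x))).symm
  have hpo : IsPushout (CommRingCat.ofHom (algebraMap A A[X])) (CommRingCat.ofHom (algebraMap A (P.residueField x)))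
      (CommRingCat.ofHom (algebraMap A[X] (Polynomial (P.residueField x))))
      (CommRingCat.ofHom (algebraMap (P.residueField x) (Polynomial (P.residueField x)))) :=
    CommRingCat.isPushout_iff_isPushout.mpr inferInstance
  have hpo2 := hpo.paste_horiz (CommRingCat.isPushout_iff_isPushout.mpr hloc)
  simp only [← CommRingCat.ofHom_comp] at hpo2
  have hA : (algebraMap A[X] A[T;T⁻¹]).comp (algebraMap A A[X]) = algebraMap A A[T;T⁻¹] := by
    refine RingHom.ext fun c => ?_
    simp [LaurentPolynomial.algebraMap_apply]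
  have hk : (algebraMap (Polynomial (P.residueField x)) (LaurentPolynomial (P.residueField x))).comp
      (algebraMap (P.residueField x) (Polynomial (P.residueField x))) =
      algebraMap (P.residueField x) (LaurentPolynomial (P.residueField x)) := by
    refine RingHom.ext fun c => ?_
    simp [LaurentPolynomial.algebraMap_apply]
  rw [hA, hk] at hpo2
  have h2 := ((isPullback_SpecMap_of_isPushout _ _ _ _ hpo2).flip).paste_vert h
  rw [show Spec.map (CommRingCat.ofHom (algebraMap A (P.residueField x))) ≫ a = P.fromSpecResidueField x from by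
    rw [show (algebraMap A (P.residueField x)) = ψ.hom from rfl, CommRingCat.ofHom_hom, hψ]
    exact IsOpenImmersion.lift_fac _ _ _] at h2
  exact ⟨h2.flip.isoPullback.symm, by rw [Iso.symm_hom, h2.flip.isoPullback_inv_snd]⟩

end Fibre

variable {Y : Scheme.{u}} {𝒮 𝒮h : RelProj.QCGrAlg Y} {ι : 𝒮.toQCAlg ⟶ 𝒮h.toQCAlg} {z : 𝒮h.presheaf.obj (op ⊤)}
  (hz : RelCone.IsPolyOver 𝒮 𝒮h ι z)
  {PC : Scheme.{u}} {pC : PC ⟶ Y}
  {chartC : ∀ (U : Y.Opens) (hU : IsAffineOpen U), (((pC ⁻¹ᵁ U : PC.Opens) : Scheme.{u}) ≅ Proj (𝒮h.deg U hU))}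
  (hPC : RelProj.IsRelProj 𝒮h pC chartC)
  {P : Scheme.{u}} {p : P ⟶ Y}
  {chart : ∀ (U : Y.Opens) (hU : IsAffineOpen U), (((p ⁻¹ᵁ U : P.Opens) : Scheme.{u}) ≅ Proj (𝒮.deg U hU))}
  (hP : RelProj.IsRelProj 𝒮 p chart)
  {r : ((RelCone.pointedProjCone 𝒮 hz pC chartC : PC.Opens) : Scheme.{u}) ⟶ P} (hr : IsRetr hz r chart)

theorem exists_deg_one (hgen : 𝒮.IsGenDegOne) (x : P) :
    ∃ (U : Y.Opens) (hU : IsAffineOpen U) (f : 𝒮.presheaf.obj (op U)) (hf : f ∈ 𝒮.deg U hU 1),
      x ∈ Set.range (aEmb p chart U hU one_pos f hf).base := by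
  obtain ⟨⟨U, hU⟩, hx⟩ := Opens.mem_iSup.mp ((iSup_affineOpens_eq_top Y).ge (trivial : p.base x ∈ (⊤ : Y.Opens)))
  obtain ⟨v, rfl⟩ := exists_point (chart := chart) U hU x hx
  obtain ⟨f, hf, hfv⟩ : ∃ f ∈ 𝒮.deg U hU 1, f ∉ v.asHomogeneousIdeal := by
    by_contra hcon
    push Not at hcon
    exact v.not_irrelevant_le fun a ha => (Ideal.span_le.mpr fun b hb => hb)
      (RPGen.irrelevant_le_span (𝒮.deg U hU) (hgen U hU) (T := v.asHomogeneousIdeal.toIdeal)
        (fun b hb => Ideal.subset_span (hcon b hb)) ha)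
  exact ⟨U, hU, f, hf, (mem_range_aEmb (p := p) (chart := chart) U hU one_pos f hf v).mpr hfv⟩

include hPC hP hr

theorem isPullback_chart (U : Y.Opens) (hU : IsAffineOpen U) {d : ℕ} (hd : 0 < d) (f : 𝒮.presheaf.obj (op U))
    (hf : f ∈ 𝒮.deg U hU d) :
    ∃ g, g ≫ (RelCone.pointedProjCone 𝒮 hz pC chartC).ι = aEmb pC chartC U hU hd _
        ((RelProj.gradedHomAt ι hz.graded U hU).2 hf) ∧
      IsPullback (Spec.map (CommRingCat.ofHom (Away.map (RelProj.gradedHomAt ι hz.graded U hU) f))) g
        (aEmb p chart U hU hd f hf) r := by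
  obtain ⟨g, hg⟩ := exists_lift_pointed hz (pC := pC) (chartC := chartC) U hU hd f hf
  refine ⟨g, hg, ?_⟩
  haveI : IsOpenImmersion g := by
    haveI : IsOpenImmersion (g ≫ (RelCone.pointedProjCone 𝒮 hz pC chartC).ι) := by rw [hg]; infer_instance
    exact IsOpenImmersion.of_comp g (RelCone.pointedProjCone 𝒮 hz pC chartC).ι
  have hgr := hr U hU d hd f hf g hg
  refine IsOpenImmersion.isPullback _ _ _ _ hgr ?_
  refine le_antisymm (fun y hy => ?_) (fun y hy => ?_)
  · obtain ⟨q, hq⟩ := hy
    have hyU : pC.base y.1 ∈ U := by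
      have h1 : p.base (r.base y) ∈ U := hq ▸ π_emb_mem U hU _
      rwa [← Scheme.Hom.comp_apply, comp_base_retr hz hPC hP hr] at h1
    obtain ⟨c, hc⟩ := exists_point (chart := chartC) U hU y.1 hyU
    have key : ∀ (W : PC.Opens) (Φ : (W : Scheme.{u}) ⟶ P),
        W = RelProj.domQ (RelProj.QGrHom.ofHom ι hz.graded) pC chartC →
        RelProj.IsProjQMapOn (RelProj.QGrHom.ofHom ι hz.graded) p chart pC chartC W Φ → ∀ w : (W : Scheme.{u}),
        (RelProj.emb pC chartC U hU).base c = W.ι.base w →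
          Φ.base w ∈ Set.range (aEmb p chart U hU hd f hf).base →
            RelProj.gradedHomAt ι hz.graded U hU f ∉ c.asHomogeneousIdeal := by
      intro W Φ hW hΦ w hw hmem
      subst hW
      have := (mem_preimage_iff _ hP hPC hΦ w hU hU le_rfl c hw hd f hf).mp hmem
      rwa [gradedAt_ofHom ι hz.graded U hU le_rfl] at this
    obtain ⟨q', hq'⟩ := (mem_range_aEmb (p := pC) (chart := chartC) U hU hd _ _ c).mpr
      (key _ r (pointedProjCone_eq_domQ hz hPC) (qmap_of_isRetr hz hPC hP hr) y hc ⟨q, hq⟩)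
    refine ⟨q', (RelCone.pointedProjCone 𝒮 hz pC chartC).ι.isOpenEmbedding.injective ?_⟩
    rw [← Scheme.Hom.comp_apply g, hg]
    exact hq'.trans hc
  · obtain ⟨q, rfl⟩ := hy
    show r.base _ ∈ Set.range (aEmb p chart U hU hd f hf).base
    rw [← Scheme.Hom.comp_apply, hgr]
    exact ⟨_, rfl⟩

theorem isPullback_poly (U : Y.Opens) (hU : IsAffineOpen U) (f : 𝒮.presheaf.obj (op U)) (hf : f ∈ 𝒮.deg U hU 1) :
    ∃ g : Spec (CommRingCat.of (Away (𝒮.deg U hU) f)[X]) ⟶
        ((RelCone.pointedProjCone 𝒮 hz pC chartC : PC.Opens) : Scheme.{u}),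
      g ≫ (RelCone.pointedProjCone 𝒮 hz pC chartC).ι = Spec.map (CommRingCat.ofHom (polyEquiv
          (RelProj.gradedHomAt ι hz.graded U hU) (hz.deg_z U hU) (hz.bij U hU) hf).symm.toRingHom) ≫
        aEmb pC chartC U hU one_pos _ ((RelProj.gradedHomAt ι hz.graded U hU).2 hf) ∧
      IsPullback (Spec.map (CommRingCat.ofHom (Polynomial.C : Away (𝒮.deg U hU) f →+* (Away (𝒮.deg U hU) f)[X]))) g
        (aEmb p chart U hU one_pos f hf) r := by
  obtain ⟨g, hg, hpb⟩ := isPullback_chart hz hPC hP hr U hU one_pos f hf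
  let e := polyEquiv (RelProj.gradedHomAt ι hz.graded U hU) (hz.deg_z U hU) (hz.bij U hU) hf
  haveI : IsIso (CommRingCat.ofHom e.symm.toRingHom) := inferInstanceAs (IsIso e.symm.toCommRingCatIso.hom)
  refine ⟨Spec.map (CommRingCat.ofHom e.symm.toRingHom) ≫ g, by rw [Category.assoc, hg]; rfl, ?_⟩
  refine hpb.of_iso (asIso (Spec.map (CommRingCat.ofHom e.symm.toRingHom))).symm (Iso.refl _) (Iso.refl _) (Iso.refl _)
    ?_ (by simp) (by simp) (by simp)
  rw [Iso.symm_hom, asIso_inv, IsIso.eq_inv_comp, Iso.refl_hom, Category.comp_id, ← Spec.map_comp,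
    ← CommRingCat.ofHom_comp]
  refine congrArg (fun m => Spec.map (CommRingCat.ofHom m)) (RingHom.ext fun a => ?_)
  refine Eq.trans ?_ (e.symm_apply_apply (Polynomial.C a))
  exact congrArg e.symm (polyMap_C _ _ _ a).symm

theorem isPullback_laurent {i : 𝒮.toQCAlg.spec ⟶ PC} (hi : RelCone.IsConeImm 𝒮 hz pC chartC i)
    {i' : ((RelCone.pointedCone 𝒮 : 𝒮.toQCAlg.spec.Opens) : Scheme.{u}) ⟶
      ((RelCone.pointedProjCone 𝒮 hz pC chartC : PC.Opens) : Scheme.{u})}
    (hi' : i' ≫ (RelCone.pointedProjCone 𝒮 hz pC chartC).ι = (RelCone.pointedCone 𝒮).ι ≫ i)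
    (U : Y.Opens) (hU : IsAffineOpen U) (f : 𝒮.presheaf.obj (op U)) (hf : f ∈ 𝒮.deg U hU 1) :
    ∃ h : Spec (CommRingCat.of (LaurentPolynomial (Away (𝒮.deg U hU) f))) ⟶
        ((RelCone.pointedCone 𝒮 : 𝒮.toQCAlg.spec.Opens) : Scheme.{u}),
      IsPullback (Spec.map (CommRingCat.ofHom (algebraMap (Away (𝒮.deg U hU) f) (LaurentPolynomial (Away (𝒮.deg U hU) f)))))
        h (aEmb p chart U hU one_pos f hf) (i' ≫ r) := by
  obtain ⟨g, hg, hpb⟩ := isPullback_poly hz hPC hP hr U hU f hf
  let A := Away (𝒮.deg U hU) f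
  let ι₀ := RelProj.gradedHomAt ι hz.graded U hU
  have D := PConeImm.data_of_polyOver hz
  have hi'' : ∀ (U : Y.Opens) (hU : IsAffineOpen U), 𝒮.toQCAlg.ι U hU ≫ i = PConeImm.chartMap D PC pC chartC U hU :=
    fun U hU => hi U hU
  haveI : IsOpenImmersion i := PConeImm.isOpenImmersion D hPC hi''
  haveI : IsOpenImmersion i' := by
    haveI : IsOpenImmersion (i' ≫ (RelCone.pointedProjCone 𝒮 hz pC chartC).ι) := by rw [hi']; infer_instance
    exact IsOpenImmersion.of_comp i' (RelCone.pointedProjCone 𝒮 hz pC chartC).ι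
  haveI : IsOpenImmersion g := by
    haveI : IsOpenImmersion (Spec.map (CommRingCat.ofHom (polyEquiv ι₀ (hz.deg_z U hU) (hz.bij U hU) hf).symm.toRingHom)) := by
      haveI : IsIso (CommRingCat.ofHom (polyEquiv ι₀ (hz.deg_z U hU) (hz.bij U hU) hf).symm.toRingHom) :=
        inferInstanceAs (IsIso (polyEquiv ι₀ (hz.deg_z U hU) (hz.bij U hU) hf).symm.toCommRingCatIso.hom)
      infer_instance
    haveI : IsOpenImmersion (g ≫ (RelCone.pointedProjCone 𝒮 hz pC chartC).ι) := by rw [hg]; infer_instance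
    exact IsOpenImmersion.of_comp g (RelCone.pointedProjCone 𝒮 hz pC chartC).ι
  let ℓ := Spec.map (CommRingCat.ofHom (algebraMap A[X] (LaurentPolynomial A)))
  haveI : IsOpenImmersion ℓ := IsOpenImmersion.of_isLocalization (X : A[X])
  have hrange : ∀ q : (Spec (CommRingCat.of A[X]) :), g.base q ∈ Set.range i'.base ↔ (X : A[X]) ∉ q.asIdeal := by
    intro q
    let e := polyEquiv ι₀ (hz.deg_z U hU) (hz.bij U hU) hf
    let q' := (Spec.map (CommRingCat.ofHom e.symm.toRingHom)).base q
    let c := (Proj.awayι (𝒮h.deg U hU) (ι₀ f) (ι₀.2 hf) one_pos).base q'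
    have hgc : (RelProj.emb pC chartC U hU).base c = (RelCone.pointedProjCone 𝒮 hz pC chartC).ι.base (g.base q) := by
      rw [← Scheme.Hom.comp_apply g, hg]; rfl
    have h1 : g.base q ∈ Set.range i'.base ↔ (RelProj.emb pC chartC U hU).base c ∈ Set.range i.base := by
      rw [hgc]
      constructor
      · rintro ⟨w, hw⟩
        exact ⟨(RelCone.pointedCone 𝒮).ι.base w, by rw [← hw, ← Scheme.Hom.comp_apply, ← hi', Scheme.Hom.comp_apply]⟩
      · rintro ⟨w, hw⟩
        have hwE : w ∈ RelCone.pointedCone 𝒮 := by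
          rw [← preimage_pointedProjCone_eq hz hPC hi]
          show i.base w ∈ RelCone.pointedProjCone 𝒮 hz pC chartC
          rw [hw]; exact (g.base q).2
        refine ⟨⟨w, hwE⟩, (RelCone.pointedProjCone 𝒮 hz pC chartC).ι.isOpenEmbedding.injective ?_⟩
        rw [← Scheme.Hom.comp_apply i', hi']
        exact hw
    rw [h1, PConeImm.mem_range_iff D hPC hi'' U hU c]
    refine (SetLike.ext_iff.mp (Proj.awayι_preimage_basicOpen (𝒮h.deg U hU) (ι₀.2 hf) one_pos (hz.deg_z U hU) one_pos)
      q').trans ?_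
    show e.symm (Away.isLocalizationElem _ _) ∉ q.asIdeal ↔ _
    rw [show Away.isLocalizationElem (ι₀.2 hf) (hz.deg_z U hU) = e X from ?_, e.symm_apply_apply]
    refine val_injective _ ?_
    show _ = (polyMap ι₀ (hz.deg_z U hU) hf X).val
    rw [polyMap_X]
    simp [Away.isLocalizationElem, ratio]
  have hℓ : Set.range (ℓ ≫ g).base ⊆ Set.range i'.base := by
    rintro _ ⟨w, rfl⟩
    rw [Scheme.Hom.comp_apply, hrange]
    exact fun hmem => (w.isPrime.ne_top (Ideal.eq_top_of_isUnit_mem _ hmem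
      (IsLocalization.Away.algebraMap_isUnit (S := LaurentPolynomial A) (X : A[X]))))
  let h := IsOpenImmersion.lift i' (ℓ ≫ g) hℓ
  refine ⟨h, ?_⟩
  have htop : IsPullback ℓ h g i' := by
    haveI : IsOpenImmersion h := by
      haveI : IsOpenImmersion (h ≫ i') := by rw [IsOpenImmersion.lift_fac]; infer_instance
      exact IsOpenImmersion.of_comp h i'
    refine (IsOpenImmersion.isPullback h ℓ i' g (IsOpenImmersion.lift_fac _ _ _).symm ?_).flip
    ext q
    show g.base q ∈ Set.range i'.base ↔ q ∈ Set.range ℓ.base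
    rw [hrange]
    constructor
    · intro hq
      have := PrimeSpectrum.localization_away_comap_range (LaurentPolynomial A) (X : A[X])
      exact this.ge hq
    · intro hq
      exact (PrimeSpectrum.localization_away_comap_range (LaurentPolynomial A) (X : A[X])).le hq
  have := htop.paste_horiz hpb
  rw [← Spec.map_comp, ← CommRingCat.ofHom_comp] at this
  convert this using 4
  refine RingHom.ext fun c => ?_
  simp [LaurentPolynomial.algebraMap_apply]

end Groth.L18.ConeFib

namespace Groth.L18.ConeFib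

open HomogeneousIdeal CategoryTheory AlgebraicGeometry CategoryTheory.Limits Opposite TopologicalSpace
open HomogeneousLocalization
open Groth.L18 Groth.L18.QMap

universe w

/-- Finite type is checked on a family of cartesian squares whose open immersions cover the target. -/
theorem locallyOfFiniteType_of_charts {E P : Scheme.{w}} (r : E ⟶ P)
    (H : ∀ x : P, ∃ (A B : CommRingCat.{w}) (φ : A ⟶ B) (a : Spec A ⟶ P) (g : Spec B ⟶ E),
      IsOpenImmersion a ∧ x ∈ Set.range a.base ∧ φ.hom.FiniteType ∧ IsPullback (Spec.map φ) g a r) :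
    LocallyOfFiniteType r := by
  choose A B φ a g ha hx hφ hpb using H
  refine IsZariskiLocalAtTarget.of_openCover (P := @LocallyOfFiniteType)
    ({ I₀ := P, X := fun x => Spec (A x), f := a,
       mem₀ := by
        rw [Scheme.presieve₀_mem_precoverage_iff]
        exact ⟨fun x => ⟨x, hx x⟩, ha⟩ } : P.OpenCover) fun k => ?_
  haveI : IsOpenImmersion (a k) := ha k
  refine (MorphismProperty.arrow_mk_iso_iff @LocallyOfFiniteType ?_).mp
    ((HasRingHomProperty.Spec_iff (P := @LocallyOfFiniteType) (φ := φ k)).mpr (hφ k))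
  exact Arrow.isoMk (hpb k).flip.isoPullback (Iso.refl _)
    (by exact (hpb k).flip.isoPullback_hom_snd.trans (Category.comp_id _).symm)

end Groth.L18.ConeFib
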