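import Groth.Agent.L18.QMap.Retraction
import Groth.Agent.L18.RelConeQMap

/-!
# The canonical retraction of the pointed projective cone and of the pointed affine cone
-/

noncomputable section

namespace Groth.L18.QMap

open HomogeneousIdeal CategoryTheory AlgebraicGeometry CategoryTheory.Limits Opposite TopologicalSpace
open HomogeneousLocalization
open Groth.L18

universe u

section Ring

variable {A B σ τ : Type u} [CommRing A] [CommRing B] [SetLike σ A] [AddSubgroupClass σ A]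
  [SetLike τ B] [AddSubgroupClass τ B] {𝒜 : ℕ → σ} [GradedRing 𝒜] {ℬ : ℕ → τ} [GradedRing ℬ]
  (ι : 𝒜 →+*ᵍ ℬ) (z : B) (hz : z ∈ ℬ 1)
  (hbij : Function.Bijective (Polynomial.eval₂RingHom (ι : A →+* B) z))

/-- The graded retraction `z ↦ 0` of `A → A[z]`. -/
def coneEval : ℬ →+*ᵍ 𝒜 where
  __ := (Polynomial.constantCoeff).comp (RingEquiv.ofBijective _ hbij).symm.toRingHom
  map_mem := fun {m} b hb => by
    have key : ∀ (a : A) (j : ℕ),
        Polynomial.constantCoeff ((RingEquiv.ofBijective _ hbij).symm ((ι : A →+* B) a * z ^ j)) =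
          if j = 0 then a else 0 := by
      intro a j
      rw [show (ι : A →+* B) a * z ^ j = (RingEquiv.ofBijective _ hbij) (Polynomial.C a * Polynomial.X ^ j) by simp,
        RingEquiv.symm_apply_apply, Polynomial.constantCoeff_apply, Polynomial.coeff_C_mul_X_pow]
      simp [eq_comm]
    have hmem := ConeAlg.mem_closure_of_mem (𝒜 := 𝒜) (ℬ := ℬ) (ι : A →+* B) (fun i a (ha : a ∈ 𝒜 i) => ι.2 ha) z hz
      hbij.2 m (show b ∈ ℬ m from hb)
    show ((Polynomial.constantCoeff).comp (RingEquiv.ofBijective _ hbij).symm.toRingHom) b ∈ 𝒜 m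
    clear hb
    induction hmem using AddSubgroup.closure_induction with
    | mem y hy =>
      obtain ⟨i, j, a, hij, ha, rfl⟩ := hy
      show Polynomial.constantCoeff ((RingEquiv.ofBijective _ hbij).symm ((ι : A →+* B) a * z ^ j)) ∈ 𝒜 m
      rw [key]
      split_ifs with hj
      · subst hj hij; simpa using ha
      · exact zero_mem _
    | zero => rw [map_zero]; exact zero_mem _
    | add a b _ _ ha hb => rw [map_add]; exact add_mem ha hb
    | neg a _ ha => rw [map_neg]; exact neg_mem ha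

theorem coneEval_apply (a : A) : coneEval ι z hz hbij (ι a) = a := by
  show Polynomial.constantCoeff ((RingEquiv.ofBijective _ hbij).symm ((ι : A →+* B) a)) = a
  rw [show (ι : A →+* B) a = (RingEquiv.ofBijective _ hbij) (Polynomial.C a) by simp, RingEquiv.symm_apply_apply]
  simp

omit z hz hbij in
theorem awayMapTo_comp_map (θ : ℬ →+*ᵍ 𝒜) {d : ℕ} (f : A) (hf : f ∈ 𝒜 d) (w : B) (hw : ι f = w) (hθw : θ w = f)
    (hθ : ∀ a, θ (ι a) = a) :
    (PConeImm.awayMapTo θ w f hθw).comp (PConeImm.awayMapTo ι f w hw) = RingHom.id _ := by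
  refine RingHom.ext fun x => ?_
  obtain ⟨n, a, ha, rfl⟩ := Away.mk_surjective 𝒜 hf x
  subst hw
  simp only [RingHom.comp_apply, PConeImm.awayMapTo_val, RingHom.id_apply]
  refine val_injective _ ?_
  simp only [Away.val_mk, hθ]

omit z hz hbij in
theorem awayMapTo_rfl (f : A) : PConeImm.awayMapTo ι f (ι f) rfl = Away.map ι f := by
  refine RingHom.ext fun x => ?_
  rfl

omit [SetLike τ B] in
/-- Relevant homogeneous primes are determined by their elements of positive degree. -/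
theorem ext_of_pos (v v' : Proj 𝒜)
    (h : ∀ n : ℕ, 0 < n → ∀ a ∈ 𝒜 n, (a ∈ v.asHomogeneousIdeal ↔ a ∈ v'.asHomogeneousIdeal)) : v = v' := by
  have hle : ∀ x x' : Proj 𝒜, (∀ n : ℕ, 0 < n → ∀ a ∈ 𝒜 n, (a ∈ x.asHomogeneousIdeal ↔ a ∈ x'.asHomogeneousIdeal)) →
      x.asHomogeneousIdeal ≤ x'.asHomogeneousIdeal := by
    intro x x' h a ha
    classical
    rw [← DirectSum.sum_support_decompose 𝒜 a]
    refine sum_mem fun n _ => ?_
    have han : (DirectSum.decompose 𝒜 a n : A) ∈ x.asHomogeneousIdeal := x.asHomogeneousIdeal.isHomogeneous n ha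
    rcases Nat.eq_zero_or_pos n with rfl | hn
    · obtain ⟨d, hd, f, hf, hfx⟩ := (PConeImm.exists_homogeneous_not_mem (𝒜 := 𝒜)
        (p := x'.asHomogeneousIdeal.toIdeal)).mp (Set.not_subset.mp x'.not_irrelevant_le)
      have hmem : (DirectSum.decompose 𝒜 a 0 : A) * f ∈ x'.asHomogeneousIdeal := by
        have hdeg : (DirectSum.decompose 𝒜 a 0 : A) * f ∈ 𝒜 d := by
          simpa using SetLike.mul_mem_graded (SetLike.coe_mem (DirectSum.decompose 𝒜 a 0)) hf
        exact (h d hd _ hdeg).mp (Ideal.mul_mem_right _ _ han)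
      exact (x'.isPrime.mem_or_mem hmem).resolve_right hfx
    · exact (h n hn _ (SetLike.coe_mem _)).mp han
  exact ProjectiveSpectrum.ext (le_antisymm (hle v v' h) (hle v' v fun n hn a ha => (h n hn a ha).symm))

end Ring

variable {Y : Scheme.{u}} {𝒮 𝒮h : RelProj.QCGrAlg Y} {ι : 𝒮.toQCAlg ⟶ 𝒮h.toQCAlg} {z : 𝒮h.presheaf.obj (op ⊤)}
  (hz : RelCone.IsPolyOver 𝒮 𝒮h ι z)
  {PC : Scheme.{u}} {pC : PC ⟶ Y}
  {chartC : ∀ (U : Y.Opens) (hU : IsAffineOpen U), (((pC ⁻¹ᵁ U : PC.Opens) : Scheme.{u}) ≅ Proj (𝒮h.deg U hU))}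
  (hPC : RelProj.IsRelProj 𝒮h pC chartC)
  {P : Scheme.{u}} {p : P ⟶ Y}
  {chart : ∀ (U : Y.Opens) (hU : IsAffineOpen U), (((p ⁻¹ᵁ U : P.Opens) : Scheme.{u}) ≅ Proj (𝒮.deg U hU))}
  (hP : RelProj.IsRelProj 𝒮 p chart)

/-- The characterizing condition of the retraction. -/
def IsRetr (r : ((RelCone.pointedProjCone 𝒮 hz pC chartC : PC.Opens) : Scheme.{u}) ⟶ P)
    (chart : ∀ (U : Y.Opens) (hU : IsAffineOpen U), (((p ⁻¹ᵁ U : P.Opens) : Scheme.{u}) ≅ Proj (𝒮.deg U hU))) : Prop :=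
  ∀ (U : Y.Opens) (hU : IsAffineOpen U) (d : ℕ) (hd : 0 < d) (f : 𝒮.presheaf.obj (op U)) (hf : f ∈ 𝒮.deg U hU d)
    (g : Spec (CommRingCat.of (HomogeneousLocalization.Away (𝒮h.deg U hU) ((RelProj.gradedHomAt ι hz.graded U hU) f))) ⟶
      ((RelCone.pointedProjCone 𝒮 hz pC chartC : PC.Opens) : Scheme.{u})),
    g ≫ (RelCone.pointedProjCone 𝒮 hz pC chartC).ι =
        Proj.awayι (𝒮h.deg U hU) ((RelProj.gradedHomAt ι hz.graded U hU) f) ((RelProj.gradedHomAt ι hz.graded U hU).2 hf) hd ≫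
          RelProj.emb pC chartC U hU →
      g ≫ r =
        Spec.map (CommRingCat.ofHom (HomogeneousLocalization.Away.map (RelProj.gradedHomAt ι hz.graded U hU) f)) ≫
          Proj.awayι (𝒮.deg U hU) f hf hd ≫ RelProj.emb p chart U hU

include hPC in
theorem exists_chart_of_mem_pointed (x : PC) (hx : x ∈ RelCone.pointedProjCone 𝒮 hz pC chartC) :
    ∃ (U : Y.Opens) (hU : IsAffineOpen U) (d : ℕ) (hd : 0 < d) (f : 𝒮.presheaf.obj (op U)) (hf : f ∈ 𝒮.deg U hU d),
      x ∈ Set.range (aEmb pC chartC U hU hd ((RelProj.gradedHomAt ι hz.graded U hU) f)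
        ((RelProj.gradedHomAt ι hz.graded U hU).2 hf)).base := by
  obtain ⟨⟨U, hU⟩, v, hv, rfl⟩ := Opens.mem_iSup.mp hx
  obtain ⟨f, hf, hfv⟩ := (RelCone.mem_domOpen _ _).mp hv
  obtain ⟨d, hd, f', hf', hfv'⟩ := (PConeImm.exists_homogeneous_not_mem
    (p := v.asHomogeneousIdeal.toIdeal.comap (RelProj.gradedHomAt ι hz.graded U hU))).mp ⟨f, hf, hfv⟩
  exact ⟨U, hU, d, hd, f', hf', (mem_range_aEmb (p := pC) (chart := chartC) U hU hd _ _ v).mpr hfv'⟩

/-- The chart lifted to the pointed projective cone. -/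
theorem exists_lift_pointed (U : Y.Opens) (hU : IsAffineOpen U) {d : ℕ} (hd : 0 < d) (f : 𝒮.presheaf.obj (op U))
    (hf : f ∈ 𝒮.deg U hU d) :
    ∃ g : Spec (CommRingCat.of (Away (𝒮h.deg U hU) ((RelProj.gradedHomAt ι hz.graded U hU) f))) ⟶
        ((RelCone.pointedProjCone 𝒮 hz pC chartC : PC.Opens) : Scheme.{u}),
      g ≫ (RelCone.pointedProjCone 𝒮 hz pC chartC).ι = aEmb pC chartC U hU hd _
        ((RelProj.gradedHomAt ι hz.graded U hU).2 hf) := by
  refine ⟨IsOpenImmersion.lift (RelCone.pointedProjCone 𝒮 hz pC chartC).ι _ ?_, IsOpenImmersion.lift_fac _ _ _⟩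
  rw [Scheme.Opens.range_ι]
  rintro _ ⟨q, rfl⟩
  exact Opens.mem_iSup.mpr ⟨⟨U, hU⟩, _, (RelCone.mem_domOpen _ _).mpr ⟨f,
    HomogeneousIdeal.mem_irrelevant_of_mem _ hd hf,
    (Proj.opensRange_awayι (𝒮h.deg U hU) _ ((RelProj.gradedHomAt ι hz.graded U hU).2 hf) hd).le ⟨q, rfl⟩⟩, rfl⟩

include hPC in
theorem isRetr_of_qmap {v : ((RelCone.pointedProjCone 𝒮 hz pC chartC : PC.Opens) : Scheme.{u}) ⟶ P}
    (hv : RelProj.IsProjQMapOn (RelProj.QGrHom.ofHom ι hz.graded) p chart pC chartC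
      (RelCone.pointedProjCone 𝒮 hz pC chartC) v) : IsRetr hz v chart := by
  intro U hU d hd f hf g hg
  obtain ⟨l, hl, hlv⟩ := lift_comp_of_eq (RelProj.QGrHom.ofHom ι hz.graded) (pointedProjCone_eq_domQ hz hPC) hv hU hU
    le_rfl hd hf (gradedAt_ofHom_apply ι hz.graded U hU le_rfl f) ((RelProj.gradedHomAt ι hz.graded U hU).2 hf)
  have e : g = l := by
    rw [← cancel_mono (RelCone.pointedProjCone 𝒮 hz pC chartC).ι]
    exact hg.trans hl.symm
  subst e
  refine hlv.trans (congrArg (· ≫ aEmb p chart U hU hd f hf) (congrArg (fun m => Spec.map (CommRingCat.ofHom m))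
    (RingHom.ext fun x => ?_)))
  obtain ⟨n, a, ha, rfl⟩ := Away.mk_surjective (𝒮.deg U hU) hf x
  rw [PConeImm.awayMapTo_val]
  refine Eq.trans ?_ (Away.map_mk (RelProj.gradedHomAt ι hz.graded U hU) f hf n a ha).symm
  refine val_injective _ ?_
  simp only [Away.val_mk, gradedAt_ofHom_apply]
  rfl

include hPC in
theorem isRetr_unique {r₁ r₂ : ((RelCone.pointedProjCone 𝒮 hz pC chartC : PC.Opens) : Scheme.{u}) ⟶ P}
    (h₁ : IsRetr hz r₁ chart) (h₂ : IsRetr hz r₂ chart) : r₁ = r₂ := by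
  refine RSGlue.hom_ext_of_range _ _ fun x => ?_
  obtain ⟨U, hU, d, hd, f, hf, q, hq⟩ := exists_chart_of_mem_pointed hz hPC x.1 x.2
  obtain ⟨g, hg⟩ := exists_lift_pointed hz (pC := pC) (chartC := chartC) U hU hd f hf
  refine ⟨_, g, ?_, ⟨q, (RelCone.pointedProjCone 𝒮 hz pC chartC).ι.isOpenEmbedding.injective ?_⟩,
    (h₁ U hU d hd f hf g hg).trans (h₂ U hU d hd f hf g hg).symm⟩
  · haveI : IsOpenImmersion (g ≫ (RelCone.pointedProjCone 𝒮 hz pC chartC).ι) := by rw [hg]; infer_instance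
    exact IsOpenImmersion.of_comp g (RelCone.pointedProjCone 𝒮 hz pC chartC).ι
  · rw [← Scheme.Hom.comp_apply, hg]; exact hq

include hPC hP in
theorem existsUnique_retr :
    ∃! r : ((RelCone.pointedProjCone 𝒮 hz pC chartC : PC.Opens) : Scheme.{u}) ⟶ P, IsRetr hz r chart := by
  obtain ⟨v, hv⟩ : ∃ v, RelProj.IsProjQMapOn (RelProj.QGrHom.ofHom ι hz.graded) p chart pC chartC
      (RelCone.pointedProjCone 𝒮 hz pC chartC) v := by
    rw [pointedProjCone_eq_domQ hz hPC]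
    exact (existsUnique_on (RelProj.QGrHom.ofHom ι hz.graded) hP hPC).exists
  exact ⟨v, isRetr_of_qmap hz hPC hv, fun r hr => isRetr_unique hz hPC hr (isRetr_of_qmap hz hPC hv)⟩

variable {r : ((RelCone.pointedProjCone 𝒮 hz pC chartC : PC.Opens) : Scheme.{u}) ⟶ P} (hr : IsRetr hz r chart)

include hPC hP hr

theorem qmap_of_isRetr :
    RelProj.IsProjQMapOn (RelProj.QGrHom.ofHom ι hz.graded) p chart pC chartC (RelCone.pointedProjCone 𝒮 hz pC chartC) r := by
  obtain ⟨v, hv⟩ : ∃ v, RelProj.IsProjQMapOn (RelProj.QGrHom.ofHom ι hz.graded) p chart pC chartC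
      (RelCone.pointedProjCone 𝒮 hz pC chartC) v := by
    rw [pointedProjCone_eq_domQ hz hPC]
    exact (existsUnique_on (RelProj.QGrHom.ofHom ι hz.graded) hP hPC).exists
  rwa [isRetr_unique hz hPC hr (isRetr_of_qmap hz hPC hv)]

theorem isAffineHom_retr : IsAffineHom r := by
  have key : ∀ (W : PC.Opens) (Φ : (W : Scheme.{u}) ⟶ P),
      W = RelProj.domQ (RelProj.QGrHom.ofHom ι hz.graded) pC chartC →
      RelProj.IsProjQMapOn (RelProj.QGrHom.ofHom ι hz.graded) p chart pC chartC W Φ → IsAffineHom Φ := by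
    intro W Φ hW hΦ
    subst hW
    exact property_on _ hP hPC hΦ @IsAffineHom (fun U hU => hU) fun U hU d hd f hf => inferInstance
  exact key _ _ (pointedProjCone_eq_domQ hz hPC) (qmap_of_isRetr hz hPC hP hr)

theorem comp_base_retr : r ≫ p = (RelCone.pointedProjCone 𝒮 hz pC chartC).ι ≫ pC := by
  have key : ∀ (W : PC.Opens) (Φ : (W : Scheme.{u}) ⟶ P),
      W = RelProj.domQ (RelProj.QGrHom.ofHom ι hz.graded) pC chartC →
      RelProj.IsProjQMapOn (RelProj.QGrHom.ofHom ι hz.graded) p chart pC chartC W Φ → Φ ≫ p = W.ι ≫ pC := by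
    intro W Φ hW hΦ
    subst hW
    exact (comp_base _ hP hPC hΦ).trans (by simp)
  exact key _ _ (pointedProjCone_eq_domQ hz hPC) (qmap_of_isRetr hz hPC hP hr)

omit hP in
theorem surjective_retr : Function.Surjective r.base := by
  intro x
  obtain ⟨⟨U, hU⟩, hx⟩ := Opens.mem_iSup.mp ((iSup_affineOpens_eq_top Y).ge (trivial : p.base x ∈ (⊤ : Y.Opens)))
  obtain ⟨v, rfl⟩ := exists_point (chart := chart) U hU x hx
  obtain ⟨d, hd, f, hf, hfv⟩ := (PConeImm.exists_homogeneous_not_mem (𝒜 := 𝒮.deg U hU)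
    (p := v.asHomogeneousIdeal.toIdeal)).mp (Set.not_subset.mp v.not_irrelevant_le)
  obtain ⟨q, hq⟩ := (mem_range_aEmb (p := p) (chart := chart) U hU hd f hf v).mpr hfv
  obtain ⟨g, hg⟩ := exists_lift_pointed hz (pC := pC) (chartC := chartC) U hU hd f hf
  let θ := coneEval (RelProj.gradedHomAt ι hz.graded U hU) _ (hz.deg_z U hU) (hz.bij U hU)
  have hθ : ∀ a, θ (RelProj.gradedHomAt ι hz.graded U hU a) = a := coneEval_apply _ _ _ _
  refine ⟨g.base ((Spec.map (CommRingCat.ofHom (PConeImm.awayMapTo θ _ f (hθ f)))).base q), ?_⟩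
  rw [← hq, ← Scheme.Hom.comp_apply g, hr U hU d hd f hf g hg, ← Scheme.Hom.comp_apply, ← Category.assoc,
    ← Spec.map_comp, ← CommRingCat.ofHom_comp, ← awayMapTo_rfl, awayMapTo_comp_map _ θ f hf _ rfl (hθ f) hθ]
  simp
  rfl

omit hP in
theorem retr_section (θ : 𝒮h.toQCAlg ⟶ 𝒮.toQCAlg) (hθ : RelProj.IsGradedHom θ) (hιθ : ι ≫ θ = 𝟙 _)
    (hirr : ∀ (U : Y.Opens) (hU : IsAffineOpen U),
      (𝒮.deg U hU)₊ ≤ ((𝒮h.deg U hU)₊).map (RelProj.gradedHomAt θ hθ U hU))
    {j : P ⟶ PC} (hj : RelProj.IsRelProjMap θ hθ hirr chartC chart j)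
    {j' : P ⟶ ((RelCone.pointedProjCone 𝒮 hz pC chartC : PC.Opens) : Scheme.{u})}
    (hj' : j' ≫ (RelCone.pointedProjCone 𝒮 hz pC chartC).ι = j) : j' ≫ r = 𝟙 P := by
  refine (aCover (p := p) (chart := chart)).hom_ext _ _ fun k => ?_
  obtain ⟨U, hU, d, hd, f, hf⟩ := k
  show aEmb p chart U hU hd f (hf hU) ≫ j' ≫ r = aEmb p chart U hU hd f (hf hU) ≫ 𝟙 P
  obtain ⟨g, hg⟩ := exists_lift_pointed hz (pC := pC) (chartC := chartC) U hU hd f (hf hU)
  have hθι : ∀ a, RelProj.gradedHomAt θ hθ U hU (RelProj.gradedHomAt ι hz.graded U hU a) = a := fun a =>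
    ConcreteCategory.congr_hom (congrArg (fun g : 𝒮.toQCAlg ⟶ 𝒮.toQCAlg => g.hom.app (op U)) hιθ) a
  have e : aEmb p chart U hU hd f (hf hU) ≫ j' =
      Spec.map (CommRingCat.ofHom (PConeImm.awayMapTo (RelProj.gradedHomAt θ hθ U hU) _ f (hθι f))) ≫ g := by
    rw [← cancel_mono (RelCone.pointedProjCone 𝒮 hz pC chartC).ι, Category.assoc, hj', Category.assoc, hg, aEmb,
      aEmb, ← Category.assoc (Spec.map _),
      PConeImm.awayι_map _ (hirr U hU) hd _ ((RelProj.gradedHomAt ι hz.graded U hU).2 (hf hU)) f (hf hU) (hθι f)]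
    simp only [RelProj.emb, Category.assoc, hj U hU, Iso.inv_hom_id_assoc]
  rw [← Category.assoc, e, Category.assoc, hr U hU d hd f (hf hU) g hg, ← Category.assoc, ← Spec.map_comp,
    ← CommRingCat.ofHom_comp, ← awayMapTo_rfl, awayMapTo_comp_map _ _ f (hf hU) _ rfl (hθι f) hθι]
  simp
  rfl

omit hP hr

variable {i : 𝒮.toQCAlg.spec ⟶ PC} (hi : RelCone.IsConeImm 𝒮 hz pC chartC i)

include hi in
theorem preimage_pointedProjCone_eq :
    i ⁻¹ᵁ RelCone.pointedProjCone 𝒮 hz pC chartC = RelCone.pointedCone 𝒮 := by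
  have D := PConeImm.data_of_polyOver hz
  have hi' : ∀ (U : Y.Opens) (hU : IsAffineOpen U), 𝒮.toQCAlg.ι U hU ≫ i = PConeImm.chartMap D PC pC chartC U hU :=
    fun U hU => hi U hU
  ext y
  obtain ⟨⟨U, hU⟩, hy⟩ := Opens.mem_iSup.mp ((iSup_affineOpens_eq_top Y).ge (trivial : 𝒮.toQCAlg.π.base y ∈ (⊤ : Y.Opens)))
  obtain ⟨w, rfl⟩ := RSGlue.exists_ι_eq 𝒮.toQCAlg U hU y hy
  rw [SetLike.mem_coe, SetLike.mem_coe, Groth.L18.Cone.ι_mem_pointedCone_iff 𝒮 U hU w]
  show i.base ((𝒮.toQCAlg.ι U hU).base w) ∈ RelCone.pointedProjCone 𝒮 hz pC chartC ↔ _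
  rw [← Scheme.Hom.comp_apply, hi U hU, pointedProjCone_eq_domQ hz hPC, Scheme.Hom.comp_apply, Scheme.Hom.comp_apply,
    mem_domQ_iff _ hPC hU hU le_rfl, gradedAt_ofHom ι hz.graded U hU le_rfl, RelCone.mem_domOpen]
  refine Iff.trans (PConeImm.exists_homogeneous_not_mem (p := Ideal.comap (RelProj.gradedHomAt ι hz.graded U hU)
    ((Proj.awayι (𝒮h.deg U hU) _ (D.deg_z U hU) one_pos).base
      ((Spec.map (CommRingCat.ofHom (hz.awayZToBase U hU))).base w)).asHomogeneousIdeal.toIdeal)) ?_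
  have h2 : w ∈ RelCone.vertexCompl (𝒮.deg U hU) ↔
      ∃ f ∈ (HomogeneousIdeal.irrelevant (𝒮.deg U hU)).toIdeal, f ∉ w.asIdeal := Set.not_subset
  rw [h2, PConeImm.exists_homogeneous_not_mem (𝒜 := 𝒮.deg U hU) (p := w.asIdeal)]
  exact exists_congr fun n => and_congr_right fun hn => exists_congr fun f => and_congr_right fun hf =>
    PConeImm.ι_mem_iff D hPC hi' U hU w n hn f hf

variable {i' : ((RelCone.pointedCone 𝒮 : 𝒮.toQCAlg.spec.Opens) : Scheme.{u}) ⟶
    ((RelCone.pointedProjCone 𝒮 hz pC chartC : PC.Opens) : Scheme.{u})}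
  (hi' : i' ≫ (RelCone.pointedProjCone 𝒮 hz pC chartC).ι = (RelCone.pointedCone 𝒮).ι ≫ i)

include hi hi' in
theorem isPullback_pointed :
    IsPullback (RelCone.pointedCone 𝒮).ι i' i (RelCone.pointedProjCone 𝒮 hz pC chartC).ι :=
  (IsOpenImmersion.isPullback i' (RelCone.pointedCone 𝒮).ι (RelCone.pointedProjCone 𝒮 hz pC chartC).ι i hi'.symm
    (by
      simp only [Scheme.Opens.opensRange_ι]
      exact preimage_pointedProjCone_eq hz hPC hi)).flip

include hi hi' in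
theorem isAffineHom_pointed : IsAffineHom i' := by
  haveI := PConeImm.isAffineHom (PConeImm.data_of_polyOver hz) hPC (fun U hU => hi U hU)
  exact MorphismProperty.of_isPullback (isPullback_pointed hz hPC hi hi') inferInstance

include hP hr hi hi' in
theorem surjective_pointed_retr : Function.Surjective (i' ≫ r).base := by
  have D := PConeImm.data_of_polyOver hz
  have hi'' : ∀ (U : Y.Opens) (hU : IsAffineOpen U), 𝒮.toQCAlg.ι U hU ≫ i = PConeImm.chartMap D PC pC chartC U hU :=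
    fun U hU => hi U hU
  intro x
  obtain ⟨⟨U, hU⟩, hx⟩ := Opens.mem_iSup.mp ((iSup_affineOpens_eq_top Y).ge (trivial : p.base x ∈ (⊤ : Y.Opens)))
  obtain ⟨v, rfl⟩ := exists_point (chart := chart) U hU x hx
  obtain ⟨d, hd, f, hf, hfv⟩ := (PConeImm.exists_homogeneous_not_mem (𝒜 := 𝒮.deg U hU)
    (p := v.asHomogeneousIdeal.toIdeal)).mp (Set.not_subset.mp v.not_irrelevant_le)
  let w : (Spec (𝒮.presheaf.obj (op U)) :) := ⟨v.asHomogeneousIdeal.toIdeal, v.isPrime⟩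
  have hw : (𝒮.toQCAlg.ι U hU).base w ∈ RelCone.pointedCone 𝒮 :=
    (Groth.L18.Cone.ι_mem_pointedCone_iff 𝒮 U hU w).mpr (fun h => v.not_irrelevant_le fun a ha => h ha)
  refine ⟨⟨_, hw⟩, ?_⟩
  let c := (Proj.awayι (𝒮h.deg U hU) _ (D.deg_z U hU) one_pos).base
    ((Spec.map (CommRingCat.ofHom (hz.awayZToBase U hU))).base w)
  have hic : (RelCone.pointedProjCone 𝒮 hz pC chartC).ι.base (i'.base ⟨_, hw⟩) = (RelProj.emb pC chartC U hU).base c := by
    rw [← Scheme.Hom.comp_apply, hi']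
    show i.base ((𝒮.toQCAlg.ι U hU).base w) = _
    rw [← Scheme.Hom.comp_apply, hi U hU]
    rfl
  have hcf : (RelProj.gradedHomAt ι hz.graded U hU) f ∉ c.asHomogeneousIdeal :=
    (PConeImm.ι_mem_iff D hPC hi'' U hU w d hd f hf).mpr hfv
  obtain ⟨g, hg⟩ := exists_lift_pointed hz (pC := pC) (chartC := chartC) U hU hd f hf
  obtain ⟨q, hq⟩ := (mem_range_aEmb (p := pC) (chart := chartC) U hU hd _ _ c).mpr hcf
  have hgq : g.base q = i'.base ⟨_, hw⟩ := by
    refine (RelCone.pointedProjCone 𝒮 hz pC chartC).ι.isOpenEmbedding.injective ?_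
    rw [← Scheme.Hom.comp_apply g, hg]
    exact hq.trans hic.symm
  have hcq : (Proj.awayι (𝒮h.deg U hU) ((RelProj.gradedHomAt ι hz.graded U hU) f)
      ((RelProj.gradedHomAt ι hz.graded U hU).2 hf) hd).base q = c :=
    (RelProj.emb pC chartC U hU).isOpenEmbedding.injective hq
  rw [Scheme.Hom.comp_apply, ← hgq, ← Scheme.Hom.comp_apply, hr U hU d hd f hf g hg]
  refine congrArg (RelProj.emb p chart U hU).base ?_
  -- two relevant homogeneous primes with the same homogeneous elements of positive degree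
  have hsame : ∀ (n : ℕ), 0 < n → ∀ a ∈ 𝒮.deg U hU n,
      (a ∈ ((Proj.awayι (𝒮.deg U hU) f hf hd).base ((Spec.map (CommRingCat.ofHom
        (Away.map (RelProj.gradedHomAt ι hz.graded U hU) f))).base q)).asHomogeneousIdeal ↔
          a ∈ v.asHomogeneousIdeal) := by
    intro n hn a ha
    refine not_iff_not.mp ((not_mem_comap_iff (RelProj.gradedHomAt ι hz.graded U hU) hd f hf hn a ha q).trans ?_)
    rw [hcq]
    exact PConeImm.ι_mem_iff D hPC hi'' U hU w n hn a ha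
  exact ext_of_pos _ _ hsame

end Groth.L18.QMap
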