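import Groth.Agent.L18.QMap.Cone

/-!
# The retraction of the pointed projective cone
-/

noncomputable section

namespace Groth.L18.QMap

open HomogeneousIdeal CategoryTheory AlgebraicGeometry CategoryTheory.Limits Opposite TopologicalSpace
open Groth.L18

universe v

section

variable {S S' : Scheme.{v}} {g : S' ⟶ S} {𝒮 : RelProj.QCGrAlg S} {𝒮' : RelProj.QCGrAlg S'}
  (u : RelProj.QGrHom g 𝒮 𝒮')
  {P : Scheme.{v}} {p : P ⟶ S}
  {chart : ∀ (U : S.Opens) (hU : IsAffineOpen U), (((p ⁻¹ᵁ U : P.Opens) : Scheme.{v}) ≅ Proj (𝒮.deg U hU))}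
  {P' : Scheme.{v}} {p' : P' ⟶ S'}
  {chart' : ∀ (U' : S'.Opens) (hU' : IsAffineOpen U'), (((p' ⁻¹ᵁ U' : P'.Opens) : Scheme.{v}) ≅ Proj (𝒮'.deg U' hU'))}

/-- `lift_comp'` on an open equal to `G(u)`. -/
theorem lift_comp_of_eq {W : P'.Opens} (hW : W = RelProj.domQ u p' chart') {Φ : (W : Scheme.{v}) ⟶ P}
    (hΦ : RelProj.IsProjQMapOn u p chart p' chart' W Φ)
    {U : S.Opens} (hU : IsAffineOpen U) {U' : S'.Opens} (hU' : IsAffineOpen U') (hle : U' ≤ g ⁻¹ᵁ U)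
    {d : ℕ} (hd : 0 < d) {f : 𝒮.presheaf.obj (op U)} (hf : f ∈ 𝒮.deg U hU d)
    {w : 𝒮'.presheaf.obj (op U')} (hw : u.gradedAt U hU U' hU' hle f = w) (hwd : w ∈ 𝒮'.deg U' hU' d) :
    ∃ l : Spec (CommRingCat.of (HomogeneousLocalization.Away (𝒮'.deg U' hU') w)) ⟶ (W : Scheme.{v}),
      l ≫ W.ι = aEmb p' chart' U' hU' hd w hwd ∧
      l ≫ Φ = Spec.map (CommRingCat.ofHom (PConeImm.awayMapTo (u.gradedAt U hU U' hU' hle) f w hw)) ≫
        aEmb p chart U hU hd f hf := by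
  subst hW
  exact ⟨IsOpenImmersion.lift (RelProj.domQ u p' chart').ι (aEmb p' chart' U' hU' hd w hwd)
    (range_subset_domQ u hU hU' hle hd hf hw hwd), IsOpenImmersion.lift_fac _ _ _,
    lift_comp' u hU hU' hle hd hf hw hwd hΦ _ (IsOpenImmersion.lift_fac _ _ _)⟩

end

section

variable {S S' : Scheme.{v}} {q : S' ⟶ S} {𝒮 : RelProj.QCGrAlg S} {𝒮' : RelProj.QCGrAlg S'}
  {u : RelProj.QGrHom q 𝒮 𝒮'} {𝒮h : RelProj.QCGrAlg S} {ι : 𝒮.toQCAlg ⟶ 𝒮h.toQCAlg}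
  {z : 𝒮h.presheaf.obj (op ⊤)} (hz : RelCone.IsPolyOver 𝒮 𝒮h ι z)
  {𝒮h' : RelProj.QCGrAlg S'} {ι' : 𝒮'.toQCAlg ⟶ 𝒮h'.toQCAlg}
  {z' : 𝒮h'.presheaf.obj (op ⊤)} (hz' : RelCone.IsPolyOver 𝒮' 𝒮h' ι' z')
  {uh : RelProj.QGrHom q 𝒮h 𝒮h'}
  (huh : ∀ U : S.Opens, ι.hom.app (op U) ≫ uh.app U = u.app U ≫ ι'.hom.app (op (q ⁻¹ᵁ U)))
  {PC : Scheme.{v}} {pC : PC ⟶ S}
  {chartC : ∀ (U : S.Opens) (hU : IsAffineOpen U), (((pC ⁻¹ᵁ U : PC.Opens) : Scheme.{v}) ≅ Proj (𝒮h.deg U hU))}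
  (hC : RelProj.IsRelProj 𝒮h pC chartC)
  {PC' : Scheme.{v}} {pC' : PC' ⟶ S'}
  {chartC' : ∀ (U : S'.Opens) (hU : IsAffineOpen U), (((pC' ⁻¹ᵁ U : PC'.Opens) : Scheme.{v}) ≅ Proj (𝒮h'.deg U hU))}
  (hC' : RelProj.IsRelProj 𝒮h' pC' chartC')
  {Φh : ((RelProj.domQ uh pC' chartC' : PC'.Opens) : Scheme.{v}) ⟶ PC}
  (hΦh : RelProj.IsProjQMapOn uh pC chartC pC' chartC' (RelProj.domQ uh pC' chartC') Φh)

include huh hC hC' hΦh in
/-- Points of `G(û)` over the pointed projective cone lie in some `D_+(ι' (u f))`. -/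
theorem exists_idx_of_mem_pointed (x : ((RelProj.domQ uh pC' chartC' : PC'.Opens) : Scheme.{v}))
    (hx : Φh.base x ∈ RelCone.pointedProjCone 𝒮 hz pC chartC) :
    ∃ (j : Idx (g := q) (𝒮 := 𝒮)),
      (RelProj.domQ uh pC' chartC').ι.base x ∈ Set.range (aEmb pC' chartC' j.U' j.hU' j.hd
        ((ι'.hom.app (op j.U')).hom (j.ψ u j.f)) (hz'.graded j.U' j.hU' j.d _ ((j.ψ u).2 j.hf))).base := by
  obtain ⟨⟨U, hU⟩, c, hc, hcx⟩ := Opens.mem_iSup.mp hx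
  obtain ⟨f, hf, hfc⟩ := (RelCone.mem_domOpen _ _).mp hc
  obtain ⟨d, hd, f', hf', hfc'⟩ := (PConeImm.exists_homogeneous_not_mem
    (p := c.asHomogeneousIdeal.toIdeal.comap (RelProj.gradedHomAt ι hz.graded U hU))).mp ⟨f, hf, hfc⟩
  have hy : q.base (pC'.base x.1) ∈ U := by
    have h1 : pC.base (Φh.base x) ∈ U := hcx ▸ π_emb_mem (chart := chartC) U hU c
    have h2 : pC.base (Φh.base x) = q.base (pC'.base x.1) :=
      congrArg (fun m : ((RelProj.domQ uh pC' chartC' : PC'.Opens) : Scheme.{v}) ⟶ S => m.base x)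
        (comp_base uh hC hC' hΦh)
    rwa [h2] at h1
  obtain ⟨pr, hpr, hprU, -⟩ := RSGlue.exists_pair_le q (pC'.base x.1) U ⊤ trivial hy
  have hle : pr.U' ≤ q ⁻¹ᵁ U := fun y h => hprU (pr.hle h)
  obtain ⟨v, hv⟩ := exists_point (chart := chartC') pr.U' pr.hU' x.1 hpr
  have hm := (mem_preimage_iff uh hC hC' hΦh x hU pr.hU' hle v hv hd ((ι.hom.app (op U)).hom f')
    (hz.graded U hU d f' hf')).mp (by
      rw [← show (RelProj.emb pC chartC U hU).base c = Φh.base x from hcx]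
      exact (mem_range_aEmb (p := pC) (chart := chartC) U hU hd _ _ c).mpr hfc')
  rw [uh_ι huh hU pr.hU' hle f'] at hm
  refine ⟨⟨U, hU, pr.U', pr.hU', hle, d, hd, f', hf'⟩, ?_⟩
  rw [show (RelProj.domQ uh pC' chartC').ι.base x = x.1 from rfl, ← hv]
  exact (mem_range_aEmb (p := pC') (chart := chartC') pr.U' pr.hU' hd _ _ v).mpr hm

variable {P : Scheme.{v}} {p : P ⟶ S}
  {chart : ∀ (U : S.Opens) (hU : IsAffineOpen U), (((p ⁻¹ᵁ U : P.Opens) : Scheme.{v}) ≅ Proj (𝒮.deg U hU))}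
  {P' : Scheme.{v}} {p' : P' ⟶ S'}
  {chart' : ∀ (U : S'.Opens) (hU : IsAffineOpen U), (((p' ⁻¹ᵁ U : P'.Opens) : Scheme.{v}) ≅ Proj (𝒮'.deg U hU))}
  {Φ : ((RelProj.domQ u p' chart' : P'.Opens) : Scheme.{v}) ⟶ P}
  (hΦ : RelProj.IsProjQMapOn u p chart p' chart' (RelProj.domQ u p' chart') Φ)
  {r : ((RelCone.pointedProjCone 𝒮 hz pC chartC : PC.Opens) : Scheme.{v}) ⟶ P}
  (hr : RelProj.IsProjQMapOn (RelProj.QGrHom.ofHom ι hz.graded) p chart pC chartC (RelCone.pointedProjCone 𝒮 hz pC chartC) r)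
  {r' : ((RelCone.pointedProjCone 𝒮' hz' pC' chartC' : PC'.Opens) : Scheme.{v}) ⟶ P'}
  (hr' : RelProj.IsProjQMapOn (RelProj.QGrHom.ofHom ι' hz'.graded) p' chart' pC' chartC'
    (RelCone.pointedProjCone 𝒮' hz' pC' chartC') r')

include huh hC hC' hΦh hΦ hr hr' in
theorem retraction_comm {T : Scheme.{v}} (a : T ⟶ ((RelCone.pointedProjCone 𝒮' hz' pC' chartC' : PC'.Opens) : Scheme.{v}))
    (b : T ⟶ ((RelProj.domQ uh pC' chartC' : PC'.Opens) : Scheme.{v}))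
    (c : T ⟶ ((RelCone.pointedProjCone 𝒮 hz pC chartC : PC.Opens) : Scheme.{v}))
    (hab : a ≫ (RelCone.pointedProjCone 𝒮' hz' pC' chartC').ι = b ≫ (RelProj.domQ uh pC' chartC').ι)
    (hbc : b ≫ Φh = c ≫ (RelCone.pointedProjCone 𝒮 hz pC chartC).ι) :
    Set.range (a ≫ r').base ⊆ ((RelProj.domQ u p' chart' : P'.Opens) : Set P') ∧
      ∀ d : T ⟶ ((RelProj.domQ u p' chart' : P'.Opens) : Scheme.{v}),
        a ≫ r' = d ≫ (RelProj.domQ u p' chart').ι → c ≫ r = d ≫ Φ := by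
  have hW := pointedProjCone_eq_domQ hz hC
  have hW' := pointedProjCone_eq_domQ hz' hC'
  -- the lifts of the charts of `Ê'`
  choose l hl hlr using fun (j : Idx (g := q) (𝒮 := 𝒮)) =>
    lift_comp_of_eq (RelProj.QGrHom.ofHom ι' hz'.graded) hW' hr' j.hU' j.hU' le_rfl j.hd ((j.ψ u).2 j.hf)
      (w := (ι'.hom.app (op j.U')).hom (j.ψ u j.f))
      (gradedAt_ofHom_apply ι' hz'.graded j.U' j.hU' le_rfl _) (hz'.graded j.U' j.hU' j.d _ ((j.ψ u).2 j.hf))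
  have hop : ∀ j, IsOpenImmersion (l j) := fun j => by
    haveI : IsOpenImmersion (l j ≫ (RelCone.pointedProjCone 𝒮' hz' pC' chartC').ι) := by rw [hl]; infer_instance
    exact IsOpenImmersion.of_comp _ (RelCone.pointedProjCone 𝒮' hz' pC' chartC').ι
  have hcov : ∀ t : T, ∃ j, a.base t ∈ Set.range (l j).base := fun t => by
    have h1 : Φh.base (b.base t) ∈ RelCone.pointedProjCone 𝒮 hz pC chartC := by
      rw [← Scheme.Hom.comp_apply, hbc]; exact (c.base t).2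
    obtain ⟨j, w, hw⟩ := exists_idx_of_mem_pointed hz hz' huh hC hC' hΦh _ h1
    refine ⟨j, w, (RelCone.pointedProjCone 𝒮' hz' pC' chartC').ι.isOpenEmbedding.injective ?_⟩
    rw [← Scheme.Hom.comp_apply, hl, hw, ← Scheme.Hom.comp_apply, ← hab, Scheme.Hom.comp_apply]
  constructor
  · rintro _ ⟨t, rfl⟩
    obtain ⟨j, w, hw⟩ := hcov t
    rw [Scheme.Hom.comp_apply, ← hw, ← Scheme.Hom.comp_apply, hlr]
    exact (Scheme.Opens.range_ι (RelProj.domQ u p' chart')).le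
      (range_subset_domQ u j.hU j.hU' j.hle j.hd j.hf rfl ((j.ψ u).2 j.hf) ⟨_, rfl⟩)
  intro d hd
  let 𝒰 : T.OpenCover :=
    { I₀ := Idx (g := q) (𝒮 := 𝒮)
      X := fun j => pullback a (l j)
      f := fun j => pullback.fst a (l j)
      mem₀ := by
        rw [Scheme.presieve₀_mem_precoverage_iff]
        refine ⟨fun t => ?_, fun j => by haveI := hop j; infer_instance⟩
        obtain ⟨j, hj⟩ := hcov t
        exact ⟨j, (Scheme.Pullback.range_fst a (l j)).ge hj⟩ }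
  refine 𝒰.hom_ext _ _ fun j => ?_
  show pullback.fst a (l j) ≫ c ≫ r = pullback.fst a (l j) ≫ d ≫ Φ
  haveI := hop j
  have hf1 : (ι.hom.app (op j.U)).hom j.f ∈ 𝒮h.deg j.U j.hU j.d := hz.graded j.U j.hU j.d _ j.hf
  have hw1 : (ι'.hom.app (op j.U')).hom (j.ψ u j.f) ∈ 𝒮h'.deg j.U' j.hU' j.d := hz'.graded j.U' j.hU' j.d _ ((j.ψ u).2 j.hf)
  have huι := uh_ι huh j.hU j.hU' j.hle j.f
  obtain ⟨m, hm, hmΦ⟩ := lift_comp_of_eq uh rfl hΦh j.hU j.hU' j.hle j.hd hf1 huι hw1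
  obtain ⟨n, hn, hnr⟩ := lift_comp_of_eq (RelProj.QGrHom.ofHom ι hz.graded) hW hr j.hU j.hU le_rfl j.hd j.hf
    (gradedAt_ofHom_apply ι hz.graded j.U j.hU le_rfl j.f) hf1
  let s := pullback.snd a (l j)
  have eb : pullback.fst a (l j) ≫ b = s ≫ m := by
    rw [← cancel_mono (RelProj.domQ uh pC' chartC').ι, Category.assoc, Category.assoc, ← hab, hm,
      pullback.condition_assoc, hl]
  have ec : pullback.fst a (l j) ≫ c =
      s ≫ Spec.map (CommRingCat.ofHom (PConeImm.awayMapTo (uh.gradedAt j.U j.hU j.U' j.hU' j.hle) _ _ huι)) ≫ n := by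
    rw [← cancel_mono (RelCone.pointedProjCone 𝒮 hz pC chartC).ι]
    simp only [Category.assoc]
    rw [hn, ← hbc, ← hmΦ, reassoc_of% eb]
  have ed : pullback.fst a (l j) ≫ d =
      s ≫ Spec.map (CommRingCat.ofHom (PConeImm.awayMapTo
        ((RelProj.QGrHom.ofHom ι' hz'.graded).gradedAt j.U' j.hU' j.U' j.hU' le_rfl) (j.ψ u j.f) _
        (gradedAt_ofHom_apply ι' hz'.graded j.U' j.hU' le_rfl _))) ≫ j.lift u := by
    rw [← cancel_mono (RelProj.domQ u p' chart').ι]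
    simp only [Category.assoc]
    rw [lift_fac u j, ← hd, pullback.condition_assoc, hlr]
    rfl
  rw [reassoc_of% ec, hnr, reassoc_of% ed, lift_comp u hΦ j]
  simp only [← Category.assoc]
  refine congrArg (· ≫ RelProj.emb p chart j.U j.hU) (congrArg (· ≫ Proj.awayι (𝒮.deg j.U j.hU) j.f j.hf j.hd) ?_)
  simp only [Category.assoc, ← Spec.map_comp]
  refine congrArg (fun e => s ≫ Spec.map e) (CommRingCat.hom_ext (RingHom.ext fun x => ?_))
  simp only [CommRingCat.hom_comp, RingHom.comp_apply, CommRingCat.hom_ofHom]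
  obtain ⟨k, y, hy, rfl⟩ := HomogeneousLocalization.Away.mk_surjective (𝒮.deg j.U j.hU) j.hf x
  simp only [PConeImm.awayMapTo_val, HomogeneousLocalization.Away.map_mk]
  refine HomogeneousLocalization.val_injective _ ?_
  simp only [HomogeneousLocalization.Away.val_mk]
  refine congrArg (fun e => Localization.mk e _) ?_
  rw [gradedAt_ofHom_apply, gradedAt_ofHom_apply]
  exact uh_ι huh j.hU j.hU' j.hle y

end

end Groth.L18.QMap
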